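import Cfsg.Agent.Known.StN.Rels
import Mathlib

/-!
The Steinberg group of type `A` over a finite field maps injectively to `SL n`.
-/

set_option autoImplicit false
set_option linter.style.haveILetI false
set_option linter.unusedSectionVars false

open scoped commutatorElement
open Matrix
open Cfsg.Lib.StLift (U2 D2 coe_U2 coe_D2)

namespace Cfsg.Lib.StN

universe u v

variable {n : ℕ} {K : Type v} [Field K] {G : Type u} [Group G]

/-- A subgroup generated by a normalised and a normalising subgroup is their product. -/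
theorem exists_mul_of_normalises {A B : Subgroup G} (h : ∀ b ∈ B, ∀ a ∈ A, b * a * b⁻¹ ∈ A) {g : G} (hg : g ∈ A ⊔ B) :
    ∃ a ∈ A, ∃ b ∈ B, g = a * b := by
  let T : Subgroup G :=
    { carrier := {g | ∃ a ∈ A, ∃ b ∈ B, g = a * b}
      one_mem' := ⟨1, one_mem _, 1, one_mem _, (one_mul 1).symm⟩
      mul_mem' := by
        rintro _ _ ⟨a, ha, b, hb, rfl⟩ ⟨a', ha', b', hb', rfl⟩
        exact ⟨a * (b * a' * b⁻¹), mul_mem ha (h b hb a' ha'), b * b', mul_mem hb hb', by group⟩
      inv_mem' := by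
        rintro _ ⟨a, ha, b, hb, rfl⟩
        exact ⟨b⁻¹ * a⁻¹ * b⁻¹⁻¹, h b⁻¹ (inv_mem hb) a⁻¹ (inv_mem ha), b⁻¹, inv_mem hb, by group⟩ }
  exact (sup_le (fun a ha => ⟨a, ha, 1, one_mem _, (mul_one a).symm⟩)
    (fun b hb => ⟨1, one_mem _, b, hb, (one_mul b).symm⟩) : A ⊔ B ≤ T) hg

/-- Conjugation inside a normaliser, checked on generators. -/
theorem conj_mem_of_closure {s : Set G} {A : Subgroup G} (hs : ∀ x ∈ s, x⁻¹ ∈ s)
    (h : ∀ x ∈ s, ∀ a ∈ A, x * a * x⁻¹ ∈ A) {g : G} (hg : g ∈ Subgroup.closure s) {a : G} (ha : a ∈ A) :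
    g * a * g⁻¹ ∈ A := by
  suffices H : (∀ a ∈ A, g * a * g⁻¹ ∈ A) ∧ ∀ a ∈ A, g⁻¹ * a * g ∈ A from H.1 a ha
  clear ha a
  induction hg using Subgroup.closure_induction with
  | mem x hx => exact ⟨h x hx, fun a ha => by simpa using h x⁻¹ (hs x hx) a ha⟩
  | one => exact ⟨fun a ha => by simpa using ha, fun a ha => by simpa using ha⟩
  | mul x y _ _ hx hy =>
    exact ⟨fun a ha => by rw [show x * y * a * (x * y)⁻¹ = x * (y * a * y⁻¹) * x⁻¹ by group]; exact hx.1 _ (hy.1 a ha),
      fun a ha => by rw [show (x * y)⁻¹ * a * (x * y) = y⁻¹ * (x⁻¹ * a * x) * y by group]; exact hy.2 _ (hx.2 a ha)⟩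
  | inv x _ hx => exact ⟨fun a ha => by simpa using hx.2 a ha, fun a ha => by simpa using hx.1 a ha⟩

theorem transvection_mulVec {m : Type*} [Fintype m] [DecidableEq m] (i j : m) (t : K) (u : m → K) :
    transvection i j t *ᵥ u = u + Pi.single i (t * u j) := by
  funext r
  rw [transvection, add_mulVec, one_mulVec, single_mulVec, Pi.add_apply]
  by_cases hr : r = i
  · subst hr; simp
  · simp [hr]

theorem act_mul (φ : G →* SpecialLinearGroup (Fin n) K) (a b : G) (u : Fin n → K) :
    (φ (a * b) : Matrix (Fin n) (Fin n) K) *ᵥ u =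
      (φ a : Matrix (Fin n) (Fin n) K) *ᵥ ((φ b : Matrix (Fin n) (Fin n) K) *ᵥ u) := by
  rw [map_mul, mulVec_mulVec]; rfl

theorem act_one (φ : G →* SpecialLinearGroup (Fin n) K) (u : Fin n → K) :
    (φ 1 : Matrix (Fin n) (Fin n) K) *ᵥ u = u := by
  rw [map_one]; exact one_mulVec u

variable (X : Fin n → Fin n → K → G)

/-- The subgroup of the first indices. -/
def Gk (k : ℕ) : Subgroup G :=
  Subgroup.closure {g | ∃ (i j : Fin n) (t : K), i ≠ j ∧ i.val < k ∧ j.val < k ∧ g = X i j t}

/-- The column subgroup. -/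
def Col (p : Fin n) : Subgroup G :=
  Subgroup.closure {g | ∃ (i : Fin n) (t : K), i.val < p.val ∧ g = X i p t}

/-- The row subgroup. -/
def Row (p : Fin n) : Subgroup G :=
  Subgroup.closure {g | ∃ (j : Fin n) (t : K), j.val < p.val ∧ g = X p j t}

variable {X}

theorem mem_Gk {k : ℕ} {i j : Fin n} (hij : i ≠ j) (hi : i.val < k) (hj : j.val < k) (t : K) : X i j t ∈ Gk X k :=
  Subgroup.subset_closure ⟨i, j, t, hij, hi, hj, rfl⟩

theorem mem_Col {p i : Fin n} (hi : i.val < p.val) (t : K) : X i p t ∈ Col X p :=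
  Subgroup.subset_closure ⟨i, t, hi, rfl⟩

theorem mem_Row {p j : Fin n} (hj : j.val < p.val) (t : K) : X p j t ∈ Row X p :=
  Subgroup.subset_closure ⟨j, t, hj, rfl⟩

variable (h : Rels X) (φ : G →* SpecialLinearGroup (Fin n) K)
  (hφ : ∀ i j, i ≠ j → ∀ t, (φ (X i j t) : Matrix (Fin n) (Fin n) K) = transvection i j t)

include h

theorem gk_inv {k : ℕ} : ∀ x ∈ {g : G | ∃ (i j : Fin n) (t : K), i ≠ j ∧ i.val < k ∧ j.val < k ∧ g = X i j t},
    x⁻¹ ∈ {g : G | ∃ (i j : Fin n) (t : K), i ≠ j ∧ i.val < k ∧ j.val < k ∧ g = X i j t} := by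
  rintro _ ⟨i, j, t, hij, hi, hj, rfl⟩
  exact ⟨i, j, -t, hij, hi, hj, h.inv hij t⟩

theorem gk_normalises_col (p : Fin n) {g : G} (hg : g ∈ Gk X p.val) {c : G} (hc : c ∈ Col X p) :
    g * c * g⁻¹ ∈ Col X p := by
  refine conj_mem_of_closure (gk_inv h) ?_ hg hc
  rintro _ ⟨i, j, t, hij, hi, hj, rfl⟩ c hc
  induction hc using Subgroup.closure_induction with
  | mem y hy =>
    obtain ⟨l, u, hl, rfl⟩ := hy
    have hlp : l ≠ p := fun e => hl.ne (congrArg Fin.val e)
    have hip : i ≠ p := fun e => hi.ne (congrArg Fin.val e)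
    rcases eq_or_ne j l with rfl | hjl
    · rw [h.cj_row hij hlp hip]
      exact mul_mem (mem_Col hi _) (mem_Col hl _)
    · rw [h.fix hij hlp hip hjl]
      exact mem_Col hl _
  | one => simp
  | mul a b _ _ ha hb => rw [mul_conj]; exact mul_mem ha hb
  | inv a _ ha => rw [show X i j t * a⁻¹ * (X i j t)⁻¹ = (X i j t * a * (X i j t)⁻¹)⁻¹ by group]; exact inv_mem ha

theorem gk_normalises_row (p : Fin n) {g : G} (hg : g ∈ Gk X p.val) {c : G} (hc : c ∈ Row X p) :
    g * c * g⁻¹ ∈ Row X p := by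
  refine conj_mem_of_closure (gk_inv h) ?_ hg hc
  rintro _ ⟨i, j, t, hij, hi, hj, rfl⟩ c hc
  induction hc using Subgroup.closure_induction with
  | mem y hy =>
    obtain ⟨l, u, hl, rfl⟩ := hy
    have hlp : p ≠ l := fun e => hl.ne (congrArg Fin.val e.symm)
    have hpj : p ≠ j := fun e => hj.ne (congrArg Fin.val e.symm)
    rcases eq_or_ne i l with rfl | hil
    · rw [h.cj_col hlp hij hpj]
      exact mul_mem (mem_Row hj _) (mem_Row hl _)
    · rw [h.fix hij hlp hil hpj.symm]
      exact mem_Row hl _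
  | one => simp
  | mul a b _ _ ha hb => rw [mul_conj]; exact mul_mem ha hb
  | inv a _ ha => rw [show X i j t * a⁻¹ * (X i j t)⁻¹ = (X i j t * a * (X i j t)⁻¹)⁻¹ by group]; exact inv_mem ha

/-- Parametrisation of a commuting family of root subgroups. -/
theorem exists_param (r c : Fin n → Fin n) (P : Fin n → Prop) (hne : ∀ i, P i → r i ≠ c i)
    (hcomm : ∀ i j, P i → P j → r i ≠ c j ∧ c i ≠ r j) :
    ∃ F : (Fin n → Multiplicative K) →* G,
      (∀ i, P i → ∀ t : K, F (Pi.mulSingle i (Multiplicative.ofAdd t)) = X (r i) (c i) t) ∧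
      (∀ i, ¬ P i → ∀ t : K, F (Pi.mulSingle i (Multiplicative.ofAdd t)) = 1) ∧
      F.range = Subgroup.closure {g | ∃ i t, P i ∧ g = X (r i) (c i) t} := by
  classical
  let one (i : Fin n) : Multiplicative K →* G :=
    { toFun := fun t => if P i then X (r i) (c i) t.toAdd else 1
      map_one' := by
        show (if P i then X (r i) (c i) (0 : K) else 1) = 1
        split_ifs with hi
        · exact h.zero (hne i hi)
        · rfl
      map_mul' := fun a b => by
        show (if P i then X (r i) (c i) (a.toAdd + b.toAdd) else 1) = _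
        split_ifs with hi
        · exact (h.add _ _ (hne i hi) _ _).symm
        · exact (one_mul 1).symm }
  have hc : Pairwise fun i j => ∀ a b, Commute (one i a) (one j b) := fun i j _ a b => by
    show Commute (if P i then _ else _) (if P j then _ else _)
    split_ifs with hi hj
    · exact h.disj _ _ _ _ (hne i hi) (hne j hj) (hcomm i j hi hj).1 (hcomm i j hi hj).2 _ _
    · exact Commute.one_right _
    · exact Commute.one_left _
    · exact Commute.one_left _
  refine ⟨MonoidHom.noncommPiCoprod one hc, fun i hi t => ?_, fun i hi t => ?_, ?_⟩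
  · rw [MonoidHom.noncommPiCoprod_mulSingle]
    exact if_pos hi
  · rw [MonoidHom.noncommPiCoprod_mulSingle]
    exact if_neg hi
  · rw [MonoidHom.noncommPiCoprod_range]
    refine le_antisymm (iSup_le fun i => ?_) ((Subgroup.closure_le _).2 ?_)
    · rintro _ ⟨t, rfl⟩
      show (if P i then _ else _) ∈ _
      split_ifs with hi
      · exact Subgroup.subset_closure ⟨i, t.toAdd, hi, rfl⟩
      · exact one_mem _
    · rintro _ ⟨i, t, hi, rfl⟩
      exact Subgroup.mem_iSup_of_mem i ⟨Multiplicative.ofAdd t, if_pos hi⟩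

include hφ

theorem col_action {p : Fin n} {c : G} (hc : c ∈ Col X p) :
    ∃ v : Fin n → K, (∀ i, ¬ i.val < p.val → v i = 0) ∧ (∀ u, (φ c : Matrix (Fin n) (Fin n) K) *ᵥ u = u + u p • v) ∧
      ((∀ i, v i = 0) → c = 1) := by
  classical
  obtain ⟨F, hF, hF0, hrange⟩ := exists_param h (fun i : Fin n => i) (fun _ => p) (fun i => i.val < p.val)
    (fun i hi e => hi.ne (congrArg Fin.val e))
    (fun i j hi hj => ⟨fun e => hi.ne (congrArg Fin.val e), fun e => hj.ne (congrArg Fin.val e.symm)⟩)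
  change c ∈ Col X p at hc
  rw [Col, show {g : G | ∃ (i : Fin n) (t : K), i.val < p.val ∧ g = X i p t} =
    {g | ∃ i t, i.val < p.val ∧ g = X i p t} from rfl, ← hrange] at hc
  obtain ⟨v, rfl⟩ := hc
  have key : ∀ v : Fin n → Multiplicative K, ∀ u, (φ (F v) : Matrix (Fin n) (Fin n) K) *ᵥ u =
      u + u p • fun i => if i.val < p.val then (v i).toAdd else 0 := by
    intro v
    rw [← Finset.univ_prod_mulSingle v]
    refine Finset.prod_induction _ (fun v : Fin n → Multiplicative K => ∀ u, (φ (F v) : Matrix (Fin n) (Fin n) K) *ᵥ u =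
      u + u p • fun i => if i.val < p.val then (v i).toAdd else 0) (fun a b ha hb u => ?_) (fun u => ?_) fun l _ u => ?_
    · rw [map_mul, act_mul, hb, ha]
      funext i
      simp only [Pi.add_apply, Pi.smul_apply, Pi.mul_apply, toAdd_mul, smul_eq_mul, lt_irrefl, if_false, mul_zero, add_zero]
      split_ifs <;> ring
    · rw [map_one, act_one]
      funext i
      simp
    · obtain ⟨t, ht⟩ : ∃ t, Multiplicative.ofAdd t = v l := ⟨_, rfl⟩
      rw [← ht]
      by_cases hl : l.val < p.val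
      · rw [hF l hl, hφ l p (fun e => hl.ne (congrArg Fin.val e)), transvection_mulVec]
        funext i
        rcases eq_or_ne i l with rfl | hil
        · simp [show i < p from hl, mul_comm]
        · simp [hil]
      · rw [hF0 l hl, act_one]
        funext i
        rcases eq_or_ne i l with rfl | hil
        · simp [show ¬ i < p from hl]
        · simp [hil]
  refine ⟨fun i => if i.val < p.val then (v i).toAdd else 0, fun i hi => if_neg hi, key v, fun h0 => ?_⟩
  rw [← Finset.univ_prod_mulSingle v]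
  refine Finset.prod_induction _ (fun w => F w = 1) (fun a b ha hb => by rw [map_mul, ha, hb, one_mul]) (map_one F)
    fun l _ => ?_
  by_cases hl : l.val < p.val
  · have h1 := h0 l
    simp only [hl, if_true] at h1
    rw [show v l = 1 from toAdd_eq_zero.1 h1, Pi.mulSingle_one, map_one]
  · rw [show v l = Multiplicative.ofAdd (v l).toAdd from rfl, hF0 l hl]

theorem row_action {p : Fin n} {c : G} (hc : c ∈ Row X p) :
    ∃ v : Fin n → K, (∀ i, ¬ i.val < p.val → v i = 0) ∧
      (∀ u, (φ c : Matrix (Fin n) (Fin n) K) *ᵥ u = u + Pi.single p (v ⬝ᵥ u)) ∧ ((∀ i, v i = 0) → c = 1) := by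
  classical
  obtain ⟨F, hF, hF0, hrange⟩ := exists_param h (fun _ => p) (fun i : Fin n => i) (fun i => i.val < p.val)
    (fun i hi e => hi.ne (congrArg Fin.val e.symm))
    (fun i j hi hj => ⟨fun e => hj.ne (congrArg Fin.val e.symm), fun e => hi.ne (congrArg Fin.val e)⟩)
  change c ∈ Row X p at hc
  rw [Row, show {g : G | ∃ (j : Fin n) (t : K), j.val < p.val ∧ g = X p j t} =
    {g | ∃ i t, i.val < p.val ∧ g = X p i t} from rfl, ← hrange] at hc
  obtain ⟨v, rfl⟩ := hc
  have key : ∀ v : Fin n → Multiplicative K, ∀ u, (φ (F v) : Matrix (Fin n) (Fin n) K) *ᵥ u =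
      u + Pi.single p ((fun i => if i.val < p.val then (v i).toAdd else 0) ⬝ᵥ u) := by
    intro v
    rw [← Finset.univ_prod_mulSingle v]
    refine Finset.prod_induction _ (fun v : Fin n → Multiplicative K => ∀ u, (φ (F v) : Matrix (Fin n) (Fin n) K) *ᵥ u =
      u + Pi.single p ((fun i => if i.val < p.val then (v i).toAdd else 0) ⬝ᵥ u)) (fun a b ha hb u => ?_)
      (fun u => ?_) fun l _ u => ?_
    · rw [map_mul, act_mul, hb, ha, dotProduct_add,
        dotProduct_single, if_neg (lt_irrefl _), zero_mul, add_zero, add_assoc, ← Pi.single_add,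
        add_comm ((fun i => if i.val < p.val then (b i).toAdd else 0) ⬝ᵥ u), ← add_dotProduct]
      congr 3
      funext i
      simp only [Pi.add_apply, Pi.mul_apply, toAdd_mul]
      split_ifs <;> ring
    · rw [map_one, act_one]
      simp [dotProduct]
    · obtain ⟨t, ht⟩ : ∃ t, Multiplicative.ofAdd t = v l := ⟨_, rfl⟩
      rw [← ht]
      have e : (fun i => if i.val < p.val then
          ((Pi.mulSingle l (Multiplicative.ofAdd t) : Fin n → Multiplicative K) i).toAdd else (0 : K)) =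
          Pi.single l (if l.val < p.val then t else 0) := by
        funext i
        rcases eq_or_ne i l with rfl | hil
        · simp
        · simp [hil]
      rw [e, single_dotProduct]
      by_cases hl : l.val < p.val
      · rw [hF l hl, hφ p l (fun e => hl.ne (congrArg Fin.val e.symm)), transvection_mulVec, if_pos hl]
      · rw [hF0 l hl, act_one, if_neg hl, zero_mul, Pi.single_zero, add_zero]
  refine ⟨fun i => if i.val < p.val then (v i).toAdd else 0, fun i hi => if_neg hi, key v, fun h0 => ?_⟩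
  rw [← Finset.univ_prod_mulSingle v]
  refine Finset.prod_induction _ (fun w => F w = 1) (fun a b ha hb => by rw [map_mul, ha, hb, one_mul]) (map_one F)
    fun l _ => ?_
  by_cases hl : l.val < p.val
  · have h1 := h0 l
    simp only [hl, if_true] at h1
    rw [show v l = 1 from toAdd_eq_zero.1 h1, Pi.mulSingle_one, map_one]
  · rw [show v l = Multiplicative.ofAdd (v l).toAdd from rfl, hF0 l hl]

/-- The image of a rank one subgroup. -/
theorem psi_action {q p : Fin n} (hqp : q ≠ p) {ψ : SpecialLinearGroup (Fin 2) K →* G}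
    (ht : ∀ t, ψ (U2 true t) = X q p t) (hf : ∀ t, ψ (U2 false t) = X p q t)
    (htop : (⊤ : Subgroup (SpecialLinearGroup (Fin 2) K)) ≤
      Subgroup.closure (Set.range fun x : Bool × K => U2 x.1 x.2)) (g : SpecialLinearGroup (Fin 2) K) (u : Fin n → K) :
    (φ (ψ g) : Matrix (Fin n) (Fin n) K) *ᵥ u =
      u + Pi.single q (((g : Matrix (Fin 2) (Fin 2) K) *ᵥ ![u q, u p]) 0 - u q) +
        Pi.single p (((g : Matrix (Fin 2) (Fin 2) K) *ᵥ ![u q, u p]) 1 - u p) := by
  classical
  let S : Submonoid (SpecialLinearGroup (Fin 2) K) :=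
    { carrier := {g | ∀ u : Fin n → K, (φ (ψ g) : Matrix (Fin n) (Fin n) K) *ᵥ u =
        u + Pi.single q (((g : Matrix (Fin 2) (Fin 2) K) *ᵥ ![u q, u p]) 0 - u q) +
          Pi.single p (((g : Matrix (Fin 2) (Fin 2) K) *ᵥ ![u q, u p]) 1 - u p)}
      one_mem' := fun u => by
        rw [map_one, act_one, show ((1 : SpecialLinearGroup (Fin 2) K) : Matrix (Fin 2) (Fin 2) K) = 1 from rfl,
          one_mulVec]
        simp
      mul_mem' := by
        intro a b ha hb u
        rw [map_mul, act_mul, hb, ha, show ((a * b : SpecialLinearGroup (Fin 2) K) : Matrix (Fin 2) (Fin 2) K) =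
          (a : Matrix (Fin 2) (Fin 2) K) * (b : Matrix (Fin 2) (Fin 2) K) from rfl, ← mulVec_mulVec]
        obtain ⟨w, hw⟩ : ∃ w, w = (b : Matrix (Fin 2) (Fin 2) K) *ᵥ ![u q, u p] := ⟨_, rfl⟩
        rw [← hw]
        have e : ![(u + (Pi.single q (w 0 - u q) : Fin n → K) + (Pi.single p (w 1 - u p) : Fin n → K)) q,
            (u + (Pi.single q (w 0 - u q) : Fin n → K) + (Pi.single p (w 1 - u p) : Fin n → K)) p] = w := by
          funext i
          fin_cases i <;> simp [hqp, hqp.symm]
        rw [e]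
        funext i
        rcases eq_or_ne i q with rfl | hiq
        · simp [hqp]
        rcases eq_or_ne i p with rfl | hip
        · simp [hqp.symm]
        · simp [hiq, hip] }
  have hgen : ∀ b t, U2 b t ∈ S := fun b t u => by
    cases b
    · rw [hf, hφ p q hqp.symm, transvection_mulVec, coe_U2]
      simp [mulVec, dotProduct, Fin.sum_univ_two]
    · rw [ht, hφ q p hqp, transvection_mulVec, coe_U2]
      simp [mulVec, dotProduct, Fin.sum_univ_two]
  revert u
  show g ∈ S
  induction htop (Subgroup.mem_top g) using Subgroup.closure_induction'' with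
  | mem x hx => obtain ⟨⟨b, t⟩, rfl⟩ := hx; exact hgen b t
  | inv_mem x hx =>
    obtain ⟨⟨b, t⟩, rfl⟩ := hx
    rw [show (U2 b t)⁻¹ = U2 b (-t) from inv_eq_of_mul_eq_one_right (by
      rw [StLift.U2_add, add_neg_cancel]; cases b <;> exact Subtype.ext (by simp [U2, one_fin_two]))]
    exact hgen b (-t)
  | one => exact S.one_mem
  | mul x y _ _ hx hy => exact S.mul_mem hx hy

theorem gk_action {p : Fin n} {g : G} (hg : g ∈ Gk X p.val) :
    (φ g : Matrix (Fin n) (Fin n) K) *ᵥ Pi.single p 1 = Pi.single p 1 ∧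
      ∀ u, ((φ g : Matrix (Fin n) (Fin n) K) *ᵥ u) p = u p := by
  induction hg using Subgroup.closure_induction'' with
  | mem x hx =>
    obtain ⟨i, j, t, hij, hi, hj, rfl⟩ := hx
    refine ⟨?_, fun u => ?_⟩
    · rw [hφ i j hij, transvection_mulVec, Pi.single_eq_of_ne (fun e => hj.ne (congrArg Fin.val e)), mul_zero,
        Pi.single_zero, add_zero]
    · rw [hφ i j hij, transvection_mulVec, Pi.add_apply, Pi.single_eq_of_ne (fun e => hi.ne (congrArg Fin.val e).symm),
        add_zero]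
  | inv_mem x hx =>
    obtain ⟨i, j, t, hij, hi, hj, rfl⟩ := hx
    rw [h.inv hij]
    refine ⟨?_, fun u => ?_⟩
    · rw [hφ i j hij, transvection_mulVec, Pi.single_eq_of_ne (fun e => hj.ne (congrArg Fin.val e)), mul_zero,
        Pi.single_zero, add_zero]
    · rw [hφ i j hij, transvection_mulVec, Pi.add_apply, Pi.single_eq_of_ne (fun e => hi.ne (congrArg Fin.val e).symm),
        add_zero]
  | one => exact ⟨act_one φ _, fun u => by rw [act_one]⟩
  | mul x y _ _ hx hy =>
    exact ⟨by rw [act_mul, hy.1, hx.1], fun u => by rw [act_mul, hx.2, hy.2]⟩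

set_option maxHeartbeats 800000 in
/-- The inductive step. -/
theorem kernel_step [Finite K] {k : ℕ} (h2 : 2 ≤ k) (hk : k < n)
    (IH : ∀ g ∈ Gk X k, φ g = 1 → g = 1) : ∀ g ∈ Gk X (k + 1), φ g = 1 → g = 1 := by
  classical
  obtain ⟨p, hp⟩ : ∃ p : Fin n, p.val = k := ⟨⟨k, hk⟩, rfl⟩
  subst hp
  obtain ⟨q, hq0⟩ : ∃ q : Fin n, q.val = 0 := ⟨⟨0, by omega⟩, rfl⟩
  obtain ⟨o, ho1⟩ : ∃ o : Fin n, o.val = 1 := ⟨⟨1, by omega⟩, rfl⟩
  have hqk : q.val < p.val := by omega
  have hok : o.val < p.val := by omega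
  have hqp : q ≠ p := fun e => by rw [e] at hqk; exact lt_irrefl _ hqk
  have hop : o ≠ p := fun e => by rw [e] at hok; exact lt_irrefl _ hok
  have hqo : q ≠ o := fun e => by rw [e] at hq0; omega
  have hnp : ∀ {i : Fin n}, i.val < p.val → i ≠ p := fun hi e => hi.ne (congrArg Fin.val e)
  obtain ⟨ψ, ht, hf, htop⟩ := h.exists_psi hqp hqo hop.symm
  obtain ⟨Wm, hWm⟩ : ∃ Wm : SpecialLinearGroup (Fin 2) K, Wm = U2 true 1 * U2 false (-1) * U2 true 1 := ⟨_, rfl⟩
  obtain ⟨w, hw⟩ : ∃ w : G, w = ψ Wm := ⟨_, rfl⟩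
  have hwW : w = W X q p 1 := by rw [hw, hWm, map_mul, map_mul, ht, hf, W, inv_one]
  have hwinv : w⁻¹ = W X q p (-1) := by rw [hwW, h.W_inv hqp]
  have hm1 : (-1 : K) ≠ 0 := neg_ne_zero.2 one_ne_zero
  set M := Gk X p.val with hM
  set H := Row X p ⊔ M with hH
  let T : Kˣ → G := fun a => ψ (D2 a)
  let S : G → Prop := fun g => (∃ c ∈ Col X p, ∃ a : Kˣ, ∃ x ∈ H, g = c * T a * x) ∨
    (∃ m ∈ M, ∃ x ∈ H, g = m * w * x)
  have hMH : M ≤ H := le_sup_right
  have hSH : ∀ g x, S g → x ∈ H → S (g * x) := by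
    rintro g x (⟨c, hc, a, y, hy, rfl⟩ | ⟨m, hm, y, hy, rfl⟩) hx
    · exact Or.inl ⟨c, hc, a, y * x, mul_mem hy hx, mul_assoc _ _ _⟩
    · exact Or.inr ⟨m, hm, y * x, mul_mem hy hx, mul_assoc _ _ _⟩
  have hTinv : ∀ a, (T a)⁻¹ = T a⁻¹ := fun a => by rw [← map_inv, StLift.D2_inv]
  -- the torus normalises
  have hTM : ∀ a, ∀ m ∈ M, T a * m * (T a)⁻¹ ∈ M := fun a m hm => by
    induction hm using Subgroup.closure_induction with
    | mem x hx =>
      obtain ⟨i, j, t, hij, hi, hj, rfl⟩ := hx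
      obtain ⟨c, -, hc⟩ := h.hh_scales (i := q) (j := p) (k := i) (l := j) hqp hij
        (fun e => hnp hj e.2) (fun e => hnp hi e.1) a.ne_zero
      rw [show T a = hh X q p (a : K) from psi_D2 h hqp ht hf a, hc]
      exact mem_Gk hij hi hj _
    | one => simp
    | mul x y _ _ hx hy => rw [mul_conj]; exact mul_mem hx hy
    | inv x _ hx => rw [show T a * x⁻¹ * (T a)⁻¹ = (T a * x * (T a)⁻¹)⁻¹ by group]; exact inv_mem hx
  -- the torus splits
  have hsplit : ∀ a : Kˣ, T a = hh X q o (a : K) * hh X o p (a : K) := by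
    intro a
    have ha := a.ne_zero
    have e1 : W X o p 1 * hh X q o (a : K) * (W X o p 1)⁻¹ = T a := by
      have eq1 : ∀ b : K, b ≠ 0 → W X o p 1 * W X q o b * (W X o p 1)⁻¹ = W X q p (-b) := fun b hb => by
        rw [W, W, W, mul_conj, mul_conj, ← W, h.W_col_i hop hqo.symm hqp.symm one_ne_zero,
          h.W_row_i hop hqo.symm hqp.symm one_ne_zero, inv_one, one_mul, one_mul, inv_neg, neg_neg]
      have hD : T a = T (-a) * (T (-1))⁻¹ := by
        rw [hTinv, ← map_mul]
        show ψ _ = ψ _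
        refine congrArg ψ (Subtype.ext ?_)
        simp only [Matrix.SpecialLinearGroup.coe_mul, coe_D2]
        simp
      rw [hh, mul_conj, eq1 _ ha, show W X o p 1 * (W X q o 1)⁻¹ * (W X o p 1)⁻¹ =
        (W X o p 1 * W X q o 1 * (W X o p 1)⁻¹)⁻¹ by group, eq1 1 one_ne_zero, hD,
        show T (-a) = hh X q p (-(a : K)) from psi_D2 h hqp ht hf (-a),
        show T (-1) = hh X q p (-1 : K) from psi_D2 h hqp ht hf (-1), hh, hh]
      group
    have e2 : (hh X q o (a : K))⁻¹ * W X o p 1 * hh X q o (a : K) = W X o p (a : K) := by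
      have r1 : ∀ u, (hh X q o (a : K))⁻¹ * X o p u * hh X q o (a : K) = X o p ((a : K) * u) := fun u => by
        have e := h.hh_conj_row_j hqo hqp hop ha ((a : K) * u)
        rw [← mul_assoc, inv_mul_cancel₀ ha, one_mul] at e
        rw [← e]; group
      have r2 : ∀ u, (hh X q o (a : K))⁻¹ * X p o u * hh X q o (a : K) = X p o ((a : K)⁻¹ * u) := fun u => by
        have e := h.hh_conj_col_j hqo hqp hop ha ((a : K)⁻¹ * u)
        rw [← mul_assoc, mul_inv_cancel₀ ha, one_mul] at e
        rw [← e]; group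
      rw [W, show (hh X q o (a : K))⁻¹ * (X o p 1 * X p o (-1⁻¹) * X o p 1) * hh X q o (a : K) =
        ((hh X q o (a : K))⁻¹ * X o p 1 * hh X q o (a : K)) * ((hh X q o (a : K))⁻¹ * X p o (-1⁻¹) * hh X q o (a : K)) *
          ((hh X q o (a : K))⁻¹ * X o p 1 * hh X q o (a : K)) by group, r1, r2, inv_one, mul_one, mul_neg, mul_one, ← W]
    rw [← e1, show hh X o p (a : K) = W X o p (a : K) * (W X o p 1)⁻¹ from rfl, ← e2]
    group
  have hhM : ∀ a : Kˣ, hh X q o (a : K) ∈ M := fun a =>
    mul_mem (mul_mem (mul_mem (mem_Gk hqo hqk hok _) (mem_Gk hqo.symm hok hqk _)) (mem_Gk hqo hqk hok _))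
      (inv_mem (mul_mem (mul_mem (mem_Gk hqo hqk hok _) (mem_Gk hqo.symm hok hqk _)) (mem_Gk hqo hqk hok _)))
  have hwop : ∀ a : K, w⁻¹ * hh X o p a * w ∈ M := fun a => by
    have r1 : ∀ u, w⁻¹ * X o p u * w ∈ M := fun u => by
      have e := h.W_col_j hqp hqo hop.symm hm1 u
      rw [← hwinv, inv_inv] at e
      rw [e]
      exact mem_Gk hqo.symm hok hqk _
    have r2 : ∀ u, w⁻¹ * X p o u * w ∈ M := fun u => by
      have e := h.W_row_j hqp hqo hop.symm hm1 u
      rw [← hwinv, inv_inv] at e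
      rw [e]
      exact mem_Gk hqo hqk hok _
    have rW : ∀ b, w⁻¹ * W X o p b * w ∈ M := fun b => by
      rw [W, show w⁻¹ * (X o p b * X p o (-b⁻¹) * X o p b) * w =
        (w⁻¹ * X o p b * w) * (w⁻¹ * X p o (-b⁻¹) * w) * (w⁻¹ * X o p b * w) by group]
      exact mul_mem (mul_mem (r1 _) (r2 _)) (r1 _)
    rw [hh, show w⁻¹ * (W X o p a * (W X o p 1)⁻¹) * w =
      (w⁻¹ * W X o p a * w) * (w⁻¹ * W X o p 1 * w)⁻¹ by group]
    exact mul_mem (rW _) (inv_mem (rW _))
  -- the rank one subgroup lies in the set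
  have hpsi : ∀ g : SpecialLinearGroup (Fin 2) K, S (ψ g) := by
    intro g
    have hdet : (g : Matrix (Fin 2) (Fin 2) K) 0 0 * g 1 1 - g 0 1 * g 1 0 = 1 := by
      rw [← det_fin_two]; exact g.2
    by_cases hg : (g : Matrix (Fin 2) (Fin 2) K) 1 1 = 0
    · rw [hg, mul_zero, zero_sub] at hdet
      have h10 : (g : Matrix (Fin 2) (Fin 2) K) 1 0 ≠ 0 := fun e => by rw [e, mul_zero, neg_zero] at hdet; exact zero_ne_one hdet
      have e : g = D2 (Units.mk0 _ (neg_ne_zero.2 h10))⁻¹ * Wm * U2 false (-(g 0 0 * g 1 0)) := by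
        refine Subtype.ext ?_
        rw [hWm]
        simp only [Matrix.SpecialLinearGroup.coe_mul, coe_U2, coe_D2]
        ext i j
        fin_cases i <;> fin_cases j <;> simp [hg] <;> field_simp <;> linear_combination -hdet
      rw [e, map_mul, map_mul, hf, ← hw, show ψ (D2 (Units.mk0 _ (neg_ne_zero.2 h10))⁻¹) =
        T (Units.mk0 _ (neg_ne_zero.2 h10))⁻¹ from rfl, hsplit, mul_assoc (hh X q o _) _ w,
        show hh X o p ((Units.mk0 _ (neg_ne_zero.2 h10))⁻¹ : Kˣ) * w =
          w * (w⁻¹ * hh X o p ((Units.mk0 _ (neg_ne_zero.2 h10))⁻¹ : Kˣ) * w) by group, ← mul_assoc]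
      exact hSH _ _ (hSH _ _ (Or.inr ⟨_, hhM _, 1, one_mem _, (mul_one _).symm⟩) (hMH (hwop _)))
        (Subgroup.mem_sup_left (mem_Row hqk _))
    · have e : g = U2 true (g 0 1 / g 1 1) * D2 (Units.mk0 _ hg)⁻¹ * U2 false (g 1 0 / g 1 1) := by
        refine Subtype.ext ?_
        simp only [Matrix.SpecialLinearGroup.coe_mul, coe_U2, coe_D2]
        ext i j
        fin_cases i <;> fin_cases j <;> simp <;> field_simp <;> linear_combination hdet
      rw [e, map_mul, map_mul, ht, hf]
      exact Or.inl ⟨_, mem_Col hqk _, (Units.mk0 _ hg)⁻¹, _, Subgroup.mem_sup_left (mem_Row hqk _), rfl⟩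
  -- left multiplication by `M`
  have hMS : ∀ m ∈ M, ∀ g, S g → S (m * g) := by
    rintro m hm g (⟨c, hc, a, x, hx, rfl⟩ | ⟨m', hm', x, hx, rfl⟩)
    · refine Or.inl ⟨m * c * m⁻¹, gk_normalises_col h p hm hc, a, ((T a)⁻¹ * m * T a) * x,
        mul_mem (hMH ?_) hx, by group⟩
      have := hTM a⁻¹ m hm
      rwa [← hTinv, inv_inv] at this
    · exact Or.inr ⟨m * m', mul_mem hm hm', x, hx, by group⟩
  -- splitting columns and rows
  have hCsplit : ∀ c ∈ Col X p, ∃ c'' ∈ Subgroup.closure {g | ∃ (i : Fin n) (t : K), i ≠ q ∧ i.val < p.val ∧ g = X i p t},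
      ∃ t, c = c'' * X q p t := by
    intro c hc
    have hle : Col X p ≤ Subgroup.closure {g | ∃ (i : Fin n) (t : K), i ≠ q ∧ i.val < p.val ∧ g = X i p t} ⊔
        Subgroup.closure (Set.range (X q p)) := (Subgroup.closure_le _).2 (by
      rintro _ ⟨i, t, hi, rfl⟩
      rcases eq_or_ne i q with rfl | hiq
      · exact Subgroup.mem_sup_right (Subgroup.subset_closure ⟨t, rfl⟩)
      · exact Subgroup.mem_sup_left (Subgroup.subset_closure ⟨i, t, hiq, hi, rfl⟩))
    obtain ⟨a, ha, b, hb, rfl⟩ := exists_mul_of_normalises (fun b hb a ha => conj_mem_of_closure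
      (by rintro _ ⟨t, rfl⟩; exact ⟨-t, (h.inv hqp t).symm⟩) (by
        rintro _ ⟨t, rfl⟩ a ha
        have e : Commute (X q p t) a := by
          induction ha using Subgroup.closure_induction with
          | mem y hy =>
            obtain ⟨i, u, -, hi, rfl⟩ := hy
            exact h.disj q p i p hqp (hnp hi) hqp (hnp hi).symm t u
          | one => exact Commute.one_right _
          | mul _ _ _ _ hx hy => exact hx.mul_right hy
          | inv _ _ hx => exact hx.inv_right
        rwa [e.eq, mul_inv_cancel_right]) hb ha) (hle hc)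
    refine ⟨a, ha, ?_⟩
    suffices ∃ t, b = X q p t by obtain ⟨t, rfl⟩ := this; exact ⟨t, rfl⟩
    clear hc hle
    induction hb using Subgroup.closure_induction with
    | mem y hy => obtain ⟨t, rfl⟩ := hy; exact ⟨t, rfl⟩
    | one => exact ⟨0, (h.zero hqp).symm⟩
    | mul _ _ _ _ hx hy => obtain ⟨t, rfl⟩ := hx; obtain ⟨u, rfl⟩ := hy; exact ⟨t + u, h.add q p hqp t u⟩
    | inv _ _ hx => obtain ⟨t, rfl⟩ := hx; exact ⟨-t, h.inv hqp t⟩
  have hRsplit : ∀ c ∈ Row X p, ∃ c'' ∈ Subgroup.closure {g | ∃ (i : Fin n) (t : K), i ≠ q ∧ i.val < p.val ∧ g = X p i t},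
      ∃ t, c = X p q t * c'' := by
    intro c hc
    have hle : Row X p ≤ Subgroup.closure (Set.range (X p q)) ⊔
        Subgroup.closure {g | ∃ (i : Fin n) (t : K), i ≠ q ∧ i.val < p.val ∧ g = X p i t} := (Subgroup.closure_le _).2 (by
      rintro _ ⟨i, t, hi, rfl⟩
      rcases eq_or_ne i q with rfl | hiq
      · exact Subgroup.mem_sup_left (Subgroup.subset_closure ⟨t, rfl⟩)
      · exact Subgroup.mem_sup_right (Subgroup.subset_closure ⟨i, t, hiq, hi, rfl⟩))
    obtain ⟨b, hb, a, ha, rfl⟩ := exists_mul_of_normalises (fun a ha b hb => conj_mem_of_closure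
      (by rintro _ ⟨i, t, hiq, hi, rfl⟩; exact ⟨i, -t, hiq, hi, h.inv (hnp hi).symm t⟩) (by
        rintro _ ⟨i, t, -, hi, rfl⟩ b hb
        have e : Commute (X p i t) b := by
          induction hb using Subgroup.closure_induction with
          | mem y hy =>
            obtain ⟨u, rfl⟩ := hy
            exact h.disj p i p q (hnp hi).symm hqp.symm hqp.symm (hnp hi) t u
          | one => exact Commute.one_right _
          | mul _ _ _ _ hx hy => exact hx.mul_right hy
          | inv _ _ hx => exact hx.inv_right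
        rwa [e.eq, mul_inv_cancel_right]) ha hb) (hle hc)
    refine ⟨a, ha, ?_⟩
    suffices ∃ t, b = X p q t by obtain ⟨t, rfl⟩ := this; exact ⟨t, rfl⟩
    clear hc hle
    induction hb using Subgroup.closure_induction with
    | mem y hy => obtain ⟨t, rfl⟩ := hy; exact ⟨t, rfl⟩
    | one => exact ⟨0, (h.zero hqp.symm).symm⟩
    | mul _ _ _ _ hx hy => obtain ⟨t, rfl⟩ := hx; obtain ⟨u, rfl⟩ := hy; exact ⟨t + u, h.add p q hqp.symm t u⟩
    | inv _ _ hx => obtain ⟨t, rfl⟩ := hx; exact ⟨-t, h.inv hqp.symm t⟩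
  -- left multiplication by the column group
  have hCS : ∀ c ∈ Col X p, ∀ g, S g → S (c * g) := by
    rintro c hc g (⟨c', hc', a, x, hx, rfl⟩ | ⟨m, hm, x, hx, rfl⟩)
    · exact Or.inl ⟨c * c', mul_mem hc hc', a, x, hx, by group⟩
    · have hc' : m⁻¹ * c * m ∈ Col X p := by simpa using gk_normalises_col h p (inv_mem hm) hc
      obtain ⟨c'', hc'', t, e⟩ := hCsplit _ hc'
      have hw'' : w⁻¹ * c'' * w ∈ M := by
        clear e
        induction hc'' using Subgroup.closure_induction with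
        | mem y hy =>
          obtain ⟨i, u, hiq, hi, rfl⟩ := hy
          have e := h.W_col_j hqp hiq.symm (hnp hi).symm hm1 u
          rw [← hwinv, inv_inv] at e
          rw [e]
          exact mem_Gk hiq hi hqk _
        | one => simp
        | mul a b _ _ ha hb => rw [show w⁻¹ * (a * b) * w = (w⁻¹ * a * w) * (w⁻¹ * b * w) by group]; exact mul_mem ha hb
        | inv a _ ha => rw [show w⁻¹ * a⁻¹ * w = (w⁻¹ * a * w)⁻¹ by group]; exact inv_mem ha
      have hcomm : Commute c'' (X q p t) := by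
        clear e hw''
        induction hc'' using Subgroup.closure_induction with
        | mem y hy =>
          obtain ⟨i, u, -, hi, rfl⟩ := hy
          exact h.disj i p q p (hnp hi) hqp (hnp hi) hqp.symm u t
        | one => exact Commute.one_left _
        | mul _ _ _ _ hx hy => exact hx.mul_left hy
        | inv _ _ hx => exact hx.inv_left
      rw [show c * (m * w * x) = m * ((m⁻¹ * c * m) * w * x) by group, e, hcomm.eq,
        show X q p t * c'' * w * x = (X q p t * w) * ((w⁻¹ * c'' * w) * x) by group, hw, ← ht, ← map_mul]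
      exact hMS m hm _ (hSH _ _ (hpsi _) (mul_mem (hMH (by rw [← hw]; exact hw'')) hx))
  -- left multiplication by the opposite root group
  have hFS : ∀ s g, S g → S (X p q s * g) := by
    rintro s g (⟨c, hc, a, x, hx, rfl⟩ | ⟨m, hm, x, hx, rfl⟩)
    · obtain ⟨c'', hc'', t, rfl⟩ := hCsplit c hc
      have hconj : X p q s * c'' * (X p q s)⁻¹ ∈ M ⊔ Col X p := by
        clear hc
        induction hc'' using Subgroup.closure_induction with
        | mem y hy =>
          obtain ⟨i, u, hiq, hi, rfl⟩ := hy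
          rw [h.cj_col (hnp hi) hqp.symm hiq]
          exact mul_mem (Subgroup.mem_sup_left (mem_Gk hiq hi hqk _)) (Subgroup.mem_sup_right (mem_Col hi _))
        | one => simp
        | mul a b _ _ ha hb => rw [mul_conj]; exact mul_mem ha hb
        | inv a _ ha => rw [show X p q s * a⁻¹ * (X p q s)⁻¹ = (X p q s * a * (X p q s)⁻¹)⁻¹ by group]; exact inv_mem ha
      have hgen : ∀ y ∈ M ⊔ Col X p, ∀ g, S g → S (y * g) := by
        intro y hy g hg
        obtain ⟨a, ha, b, hb, rfl⟩ := exists_mul_of_normalises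
          (fun b hb a ha => gk_normalises_col h p hb ha) (sup_comm M (Col X p) ▸ hy)
        rw [mul_assoc]
        exact hCS a ha _ (hMS b hb _ hg)
      rw [show X p q s * (c'' * X q p t * T a * x) =
        (X p q s * c'' * (X p q s)⁻¹) * ((X p q s * X q p t * T a) * x) by group, ← hf, ← ht,
        show T a = ψ (D2 a) from rfl, ← map_mul, ← map_mul]
      exact hgen _ (by rw [hf]; exact hconj) _ (hSH _ _ (hpsi _) hx)
    · have hr : m⁻¹ * X p q s * m ∈ Row X p := by simpa using gk_normalises_row h p (inv_mem hm) (mem_Row hqk s)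
      obtain ⟨c'', hc'', t, e⟩ := hRsplit _ hr
      have hw'' : w⁻¹ * c'' * w ∈ M := by
        clear e
        induction hc'' using Subgroup.closure_induction with
        | mem y hy =>
          obtain ⟨i, u, hiq, hi, rfl⟩ := hy
          have e := h.W_row_j hqp hiq.symm (hnp hi).symm hm1 u
          rw [← hwinv, inv_inv] at e
          rw [e]
          exact mem_Gk hiq.symm hqk hi _
        | one => simp
        | mul a b _ _ ha hb => rw [show w⁻¹ * (a * b) * w = (w⁻¹ * a * w) * (w⁻¹ * b * w) by group]; exact mul_mem ha hb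
        | inv a _ ha => rw [show w⁻¹ * a⁻¹ * w = (w⁻¹ * a * w)⁻¹ by group]; exact inv_mem ha
      rw [show X p q s * (m * w * x) = m * ((m⁻¹ * X p q s * m) * w * x) by group, e,
        show X p q t * c'' * w * x = (X p q t * w) * ((w⁻¹ * c'' * w) * x) by group, hw, ← hf, ← map_mul]
      exact hMS m hm _ (hSH _ _ (hpsi _) (mul_mem (hMH (by rw [← hw]; exact hw'')) hx))
  -- everything
  let St : Subgroup G :=
    { carrier := {g | ∀ y, S y → S (g * y) ∧ S (g⁻¹ * y)}
      one_mem' := fun y hy => by simp [hy]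
      mul_mem' := fun {a b} ha hb y hy => ⟨by rw [mul_assoc]; exact (ha _ (hb y hy).1).1,
        by rw [_root_.mul_inv_rev, mul_assoc]; exact (hb _ (ha y hy).2).2⟩
      inv_mem' := fun {a} ha y hy => ⟨(ha y hy).2, by rw [inv_inv]; exact (ha y hy).1⟩ }
  have hMSt : ∀ m ∈ M, m ∈ St := fun m hm y hy => ⟨hMS m hm y hy, hMS _ (inv_mem hm) y hy⟩
  have hFSt : ∀ s, X p q s ∈ St := fun s y hy => ⟨hFS s y hy, by rw [h.inv hqp.symm]; exact hFS _ y hy⟩
  have hall : Gk X (p.val + 1) ≤ St := (Subgroup.closure_le _).2 (by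
    rintro _ ⟨i, j, t, hij, hi, hj, rfl⟩
    rcases Nat.lt_or_ge i.val p.val with hi' | hi'
    · rcases Nat.lt_or_ge j.val p.val with hj' | hj'
      · exact hMSt _ (mem_Gk hij hi' hj' t)
      · obtain rfl : j = p := Fin.ext (by omega)
        exact fun y hy => ⟨hCS _ (mem_Col hi' t) y hy, by rw [h.inv hij]; exact hCS _ (mem_Col hi' _) y hy⟩
    · obtain rfl : i = p := Fin.ext (by omega)
      have hj' : j.val < i.val := by
        have : j.val ≠ i.val := fun e => hij (Fin.ext e.symm)
        omega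
      rcases eq_or_ne j q with rfl | hjq
      · exact hFSt t
      · show X i j t ∈ St
        rw [← mul_one t, ← h.comm i q j hqp.symm hjq.symm hij, commutatorElement_def]
        exact mul_mem (mul_mem (mul_mem (hFSt _) (hMSt _ (mem_Gk hjq.symm hqk hj' _))) (inv_mem (hFSt _)))
          (inv_mem (hMSt _ (mem_Gk hjq.symm hqk hj' _))))
  intro g hg hg1
  have hS1 : S 1 := Or.inl ⟨1, one_mem _, 1, 1, one_mem _, by
    rw [show T 1 = 1 from (congrArg ψ (Subtype.ext (by simp [coe_D2, one_fin_two]) : D2 1 = 1)).trans (map_one ψ),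
      mul_one, mul_one]⟩
  have hSg := (hall hg 1 hS1).1
  rw [mul_one] at hSg
  have hepfix : ∀ x ∈ H, (φ x : Matrix (Fin n) (Fin n) K) *ᵥ Pi.single p 1 = Pi.single p 1 := by
    intro x hx
    obtain ⟨r, hr, m, hm, rfl⟩ := exists_mul_of_normalises (fun b hb a ha => gk_normalises_row h p hb ha) hx
    obtain ⟨v, hv0, hv, -⟩ := row_action h φ hφ hr
    rw [act_mul, (gk_action h φ hφ hm).1, hv, dotProduct_single, hv0 p (lt_irrefl _), zero_mul, Pi.single_zero, add_zero]
  have hid : ∀ u, (φ g : Matrix (Fin n) (Fin n) K) *ᵥ u = u := fun u => by rw [hg1]; exact one_mulVec u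
  rcases hSg with ⟨c, hc, a, x, hx, rfl⟩ | ⟨m, hm, x, hx, rfl⟩
  swap
  · exfalso
    have h1 := congrFun (hid (Pi.single p 1)) p
    rw [act_mul, act_mul, hepfix x hx, (gk_action h φ hφ hm).2, hw, psi_action h φ hφ hqp ht hf htop, hWm,
      Pi.single_eq_same] at h1
    simp [hqp.symm, coe_U2, mulVec, dotProduct, Fin.sum_univ_two] at h1
  obtain ⟨v, hv0, hv, hv1⟩ := col_action h φ hφ hc
  have h1 := hid (Pi.single p 1)
  rw [act_mul, act_mul, hepfix x hx, psi_action h φ hφ hqp ht hf htop, hv] at h1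
  simp [hqp, coe_D2, mulVec, dotProduct, Fin.sum_univ_two] at h1
  have hp1 := congrFun h1 p
  simp [hv0 p (lt_irrefl _)] at hp1
  subst hp1
  have hc1 : c = 1 := hv1 fun i => by
    by_cases hi : i.val < p.val
    · have := congrFun h1 i
      simp [hnp hi] at this
      exact this
    · exact hv0 i hi
  subst hc1
  rw [show T 1 = 1 from (congrArg ψ (Subtype.ext (by simp [coe_D2, one_fin_two]) : D2 1 = 1)).trans (map_one ψ),
    mul_one, one_mul] at hg1 hid ⊢
  obtain ⟨r, hr, m, hm, rfl⟩ := exists_mul_of_normalises (fun b hb a ha => gk_normalises_row h p hb ha) hx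
  obtain ⟨v', hv0', hv', hv1'⟩ := row_action h φ hφ hr
  have hr1 : r = 1 := hv1' fun j => by
    by_cases hj : j.val < p.val
    swap
    · exact hv0' j hj
    have e := hid (Pi.single j 1)
    rw [act_mul, hv'] at e
    set y := (φ m : Matrix (Fin n) (Fin n) K) *ᵥ Pi.single j 1 with hy
    have hyp : y p = 0 := by rw [hy, (gk_action h φ hφ hm).2, Pi.single_eq_of_ne (hnp hj).symm]
    have hy1 : y = Pi.single j 1 := funext fun i => by
      rcases eq_or_ne i p with rfl | hip
      · rw [hyp, Pi.single_eq_of_ne (hnp hj).symm]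
      · simpa [hip] using congrFun e i
    have e2 := congrFun e p
    rw [hy1] at e2
    simpa [hnp hj, (hnp hj).symm] using e2
  rw [hr1, one_mul] at hg1 ⊢
  exact IH m hm hg1

/-- The rank one case. -/
theorem kernel_base [Finite K] (hn : 3 ≤ n) : ∀ g ∈ Gk X 2, φ g = 1 → g = 1 := by
  classical
  obtain ⟨q, hq⟩ : ∃ q : Fin n, q.val = 0 := ⟨⟨0, by omega⟩, rfl⟩
  obtain ⟨p, hp⟩ : ∃ p : Fin n, p.val = 1 := ⟨⟨1, by omega⟩, rfl⟩
  obtain ⟨o, ho⟩ : ∃ o : Fin n, o.val = 2 := ⟨⟨2, by omega⟩, rfl⟩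
  have hqp : q ≠ p := fun e => by rw [e, hp] at hq; exact absurd hq one_ne_zero
  obtain ⟨ψ, ht, hf, htop⟩ := h.exists_psi hqp (k := o) (fun e => by rw [e, ho] at hq; omega)
    (fun e => by rw [e, ho] at hp; omega)
  intro g hg hg1
  have hle : Gk X 2 ≤ ψ.range := (Subgroup.closure_le _).2 (by
    rintro _ ⟨i, j, t, hij, hi, hj, rfl⟩
    have hij' : i.val ≠ j.val := fun e => hij (Fin.ext e)
    rcases Nat.lt_or_ge i.val 1 with hi' | hi'
    · obtain rfl : i = q := Fin.ext (by omega)
      obtain rfl : j = p := Fin.ext (by omega)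
      exact ⟨U2 true t, ht t⟩
    · obtain rfl : i = p := Fin.ext (by omega)
      obtain rfl : j = q := Fin.ext (by omega)
      exact ⟨U2 false t, hf t⟩)
  obtain ⟨x, rfl⟩ := hle hg
  suffices x = 1 by rw [this, map_one]
  have key : ∀ a b : K, (x : Matrix (Fin 2) (Fin 2) K) *ᵥ ![a, b] = ![a, b] := by
    intro a b
    have e := psi_action h φ hφ hqp ht hf htop x (Pi.single q a + Pi.single p b)
    rw [hg1] at e
    rw [show ((1 : SpecialLinearGroup (Fin n) K) : Matrix (Fin n) (Fin n) K) = 1 from rfl, one_mulVec] at e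
    have e0 := congrFun e q
    have e1 := congrFun e p
    simp [hqp, hqp.symm] at e0 e1
    funext i
    fin_cases i
    · simpa [mulVec, dotProduct, Fin.sum_univ_two] using e0.symm
    · simpa [mulVec, dotProduct, Fin.sum_univ_two] using e1.symm
  refine Subtype.ext ?_
  ext i j
  fin_cases j
  · have := congrFun (key 1 0) i
    fin_cases i <;> simpa [mulVec, dotProduct, Fin.sum_univ_two] using this
  · have := congrFun (key 0 1) i
    fin_cases i <;> simpa [mulVec, dotProduct, Fin.sum_univ_two] using this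

/-- The relations present the special linear group. -/
theorem kernel_eq_bot [Finite K] (hn : 3 ≤ n)
    (hgen : Subgroup.closure {g | ∃ (i j : Fin n) (t : K), i ≠ j ∧ g = X i j t} = ⊤) :
    Function.Injective φ := by
  have step : ∀ k, 2 ≤ k → k ≤ n → ∀ g ∈ Gk X k, φ g = 1 → g = 1 := by
    intro k hk
    induction k, hk using Nat.le_induction with
    | base => exact fun _ => kernel_base h φ hφ hn
    | succ k hk IH => exact fun hkn => kernel_step h φ hφ hk hkn (IH (by omega))
  refine (injective_iff_map_eq_one φ).2 fun g hg => step n (by omega) le_rfl g ?_ hg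
  refine (Subgroup.closure_le _).2 ?_ (hgen.ge (Subgroup.mem_top g))
  rintro _ ⟨i, j, t, hij, rfl⟩
  exact mem_Gk hij i.isLt j.isLt t

end Cfsg.Lib.StN
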