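import Cfsg.Agent.Known.StN.Kernel
import Cfsg.Agent.Known.StLift.Basic
import Cfsg.Agent.S2401
import Mathlib

/-!
Stem extensions of `SL n` for `n ≥ 3`.
-/

set_option autoImplicit false
set_option linter.style.haveILetI false
set_option linter.unusedSectionVars false

open scoped commutatorElement
open Matrix

namespace Cfsg.Lib.StN

universe u v

variable {n : ℕ} {F : Type v} [Field F]

/-- The elementary matrices, as a total function. -/
def T (i j : Fin n) (t : F) : SpecialLinearGroup (Fin n) F :=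
  if h : i ≠ j then SpecialLinearGroup.transvection h t else 1

theorem coe_T {i j : Fin n} (h : i ≠ j) (t : F) :
    (T i j t : Matrix (Fin n) (Fin n) F) = Matrix.transvection i j t := by
  rw [T, dif_pos h]; rfl

theorem sl_ext {A B : SpecialLinearGroup (Fin n) F} (h : (A : Matrix (Fin n) (Fin n) F) = B) : A = B := Subtype.ext h

theorem coe_mul' (A B : SpecialLinearGroup (Fin n) F) :
    ((A * B : SpecialLinearGroup (Fin n) F) : Matrix (Fin n) (Fin n) F) = (A : Matrix (Fin n) (Fin n) F) * B := rfl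

theorem rels_T : Rels (T (n := n) (F := F)) := by
  refine ⟨fun i j hij t u => ?_, fun i j k l hij hkl hil hjk t u => ?_, fun i j l hij hjl hil t u => ?_⟩
  · refine sl_ext ?_
    rw [coe_mul', coe_T hij, coe_T hij, coe_T hij, transvection_mul_transvection_same i j hij]
  · refine sl_ext ?_
    rw [coe_mul', coe_mul', coe_T hij, coe_T hkl]
    simp only [transvection, add_mul, mul_add, one_mul, mul_one]
    rw [single_mul_single_of_ne _ _ _ _ hjk, single_mul_single_of_ne _ _ _ _ hil.symm]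
    abel
  · rw [commutatorElement_def, mul_inv_eq_iff_eq_mul, mul_inv_eq_iff_eq_mul]
    refine sl_ext ?_
    rw [coe_mul', coe_mul', coe_mul', coe_T hij, coe_T hjl,
      coe_T hil]
    have z1 : ∀ a b : F, single i l a * single j l b = 0 := fun a b => single_mul_single_of_ne _ _ _ _ hjl.symm _
    have z2 : ∀ a b : F, single i l a * single i j b = 0 := fun a b => single_mul_single_of_ne _ _ _ _ hil.symm _
    have z3 : ∀ a b : F, single j l a * single i j b = 0 := fun a b => single_mul_single_of_ne _ _ _ _ hil.symm _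
    simp only [transvection, add_mul, mul_add, one_mul, mul_one, single_mul_single_same, z1, z2, z3, add_zero]
    abel

/-- A diagonal matrix of determinant one. -/
def dg (d : Fin n → Fˣ) (hd : ∏ x, d x = 1) : SpecialLinearGroup (Fin n) F :=
  ⟨Matrix.diagonal fun x => (d x : F), by rw [det_diagonal, ← Units.coe_prod, hd, Units.val_one]⟩

theorem dg_conj (d : Fin n → Fˣ) (hd : ∏ x, d x = 1) {i j : Fin n} (hij : i ≠ j) (t : F) :
    dg d hd * T i j t * (dg d hd)⁻¹ = T i j ((d i : F) * (d j : F)⁻¹ * t) := by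
  rw [mul_inv_eq_iff_eq_mul]
  refine sl_ext ?_
  rw [coe_mul', coe_mul', coe_T hij, coe_T hij]
  show diagonal _ * transvection i j t = transvection i j _ * diagonal _
  simp only [transvection, mul_add, add_mul, mul_one, one_mul]
  congr 1
  ext x y
  rw [diagonal_mul, mul_diagonal]
  by_cases hx : i = x ∧ j = y
  · obtain ⟨rfl, rfl⟩ := hx
    rw [single_apply_same, single_apply_same]
    field_simp
  · rw [single_apply_of_ne _ _ _ _ _ hx, single_apply_of_ne _ _ _ _ _ hx]
    simp

theorem prod_three (i j l : Fin n) (s : Fˣ) :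
    ∏ x, (Pi.mulSingle i s * Pi.mulSingle j s * Pi.mulSingle l (s ^ 2)⁻¹ : Fin n → Fˣ) x = 1 := by
  simp only [Pi.mul_apply, Finset.prod_mul_distrib, Finset.prod_pi_mulSingle', Finset.mem_univ, if_true]
  rw [← pow_two, mul_inv_cancel]

theorem prod_two (i j : Fin n) (s : Fˣ) : ∏ x, (Pi.mulSingle i s * Pi.mulSingle j s⁻¹ : Fin n → Fˣ) x = 1 := by
  simp only [Pi.mul_apply, Finset.prod_mul_distrib, Finset.prod_pi_mulSingle', Finset.mem_univ, if_true]
  rw [mul_inv_cancel]

theorem exists_cube_ne_one [Finite F] (h2 : Nat.card F ≠ 2) (h4 : Nat.card F ≠ 4) : ∃ s : Fˣ, (s : F) ^ 3 ≠ 1 := by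
  obtain ⟨s, hs⟩ := IsCyclic.exists_ofOrder_eq_natCard (α := Fˣ)
  refine ⟨s, fun e => ?_⟩
  have hd : Nat.card Fˣ ∣ 3 := hs ▸ orderOf_dvd_of_pow_eq_one (Units.ext (by simpa using e))
  rw [Nat.card_units] at hd
  have h1 : 1 < Nat.card F := Finite.one_lt_card
  rcases (Nat.dvd_prime Nat.prime_three).1 hd with h | h <;> omega

theorem exists_sq_ne_one' [Finite F] (h2 : Nat.card F ≠ 2) (h3 : Nat.card F ≠ 3) : ∃ s : Fˣ, (s : F) ^ 2 ≠ 1 := by
  obtain ⟨s, hs⟩ := IsCyclic.exists_ofOrder_eq_natCard (α := Fˣ)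
  refine ⟨s, fun e => ?_⟩
  have hd : Nat.card Fˣ ∣ 2 := hs ▸ orderOf_dvd_of_pow_eq_one (Units.ext (by simpa using e))
  rw [Nat.card_units] at hd
  have h1 : 1 < Nat.card F := Finite.one_lt_card
  rcases (Nat.dvd_prime Nat.prime_two).1 hd with h | h <;> omega

section Central

variable {Γ : Type u} [Group Γ] {σ : Γ →* SpecialLinearGroup (Fin n) F} (hc : σ.ker ≤ Subgroup.center Γ)
include hc

/-- An element commuting modulo the centre with two others commutes with their commutator. -/
theorem vanish {a b c y : Γ} (hb : Commute (σ a) (σ b)) (hc' : Commute (σ a) (σ c))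
    (hy : σ y = ⁅σ b, σ c⁆) : ⁅a, y⁆ = 1 := by
  rw [Schur.comm_congr σ hc (g' := a) (h' := ⁅b, c⁆) rfl (by rw [hy, map_commutatorElement]),
    commutatorElement_def, StLift.conj_comm hc a b c b c (by rw [hb.eq, mul_inv_cancel_right])
      (by rw [hc'.eq, mul_inv_cancel_right]), mul_inv_cancel]

/-- A biadditive pairing invariant under a nontrivial scaling is trivial. -/
theorem pairing_eq_one {Y Z : F → Γ} {A B : F → SpecialLinearGroup (Fin n) F}
    (hY : ∀ t, σ (Y t) = A t) (hZ : ∀ u, σ (Z u) = B u) (hA : ∀ t t', A t * A t' = A (t + t'))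
    (hAB : ∀ t u, Commute (A t) (B u)) {c : F} (hc1 : c ≠ 1)
    (hinv : ∀ t u, ⁅Y (c * t), Z u⁆ = ⁅Y t, Z u⁆) (t u : F) : ⁅Y t, Z u⁆ = 1 := by
  have hcm : c - 1 ≠ 0 := sub_ne_zero.2 hc1
  have e := hinv ((c - 1)⁻¹ * t) u
  rw [Schur.comm_congr σ hc (g := Y (c * ((c - 1)⁻¹ * t))) (g' := Y t * Y ((c - 1)⁻¹ * t)) (h' := Z u)
    (by rw [map_mul, hY, hY, hY, hA]; congr 1; field_simp; ring) rfl,
    StLift.comm_mul_left hc (by rw [hY, hZ]; exact hAB _ _)] at e
  exact mul_eq_right.mp e

variable [Finite F] (hs : Function.Surjective σ) (hn : 3 ≤ n)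
  (h3 : n = 3 → Nat.card F ≠ 2 ∧ Nat.card F ≠ 4) (h4 : n = 4 → Nat.card F ≠ 2)
include hs hn h3 h4

theorem exists_not_mem {m : ℕ} (s : Finset (Fin m)) (h : s.card < m) : ∃ x, x ∉ s := by
  by_contra e
  push Not at e
  rw [Finset.eq_univ_iff_forall.2 e] at h
  simp at h

/-- Lifts of commuting elementary matrices commute. -/
theorem lift_commute {i j k l : Fin n} (hij : i ≠ j) (hkl : k ≠ l) (hil : i ≠ l) (hjk : j ≠ k) {a b : Γ} {t u : F}
    (ha : σ a = T i j t) (hb : σ b = T k l u) : Commute a b := by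
  classical
  have R := rels_T (n := n) (F := F)
  rw [← commutatorElement_eq_one_iff_commute]
  -- splitting the second root by a further index
  have split : ∀ m : Fin n, m ≠ k → m ≠ l → i ≠ m → j ≠ m → ⁅a, b⁆ = 1 := by
    intro m hmk hml him hjm
    obtain ⟨c, hcc⟩ := hs (T k m u)
    obtain ⟨d, hdd⟩ := hs (T m l 1)
    refine vanish hc (b := c) (c := d) ?_ ?_ ?_
    · rw [ha, hcc]; exact R.disj i j k m hij hmk.symm him hjk t u
    · rw [ha, hdd]; exact R.disj i j m l hij hml hil hjm t 1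
    · rw [hb, hcc, hdd, R.comm k m l hmk.symm hml hkl, mul_one]
  have scale : ∀ (d : Fin n → Fˣ) (hd : ∏ x, d x = 1), (d i : F) * (d j : F)⁻¹ ≠ 1 →
      (d k : F) * (d l : F)⁻¹ = 1 → ⁅a, b⁆ = 1 := by
    intro d hd h1 h2
    choose Y hY using fun t : F => hs (T i j t)
    choose Z hZ using fun u : F => hs (T k l u)
    rw [Schur.comm_congr σ hc (ha.trans (hY t).symm) (hb.trans (hZ u).symm)]
    refine pairing_eq_one hc hY hZ (R.add i j hij) (R.disj i j k l hij hkl hil hjk) h1 (fun t u => ?_) t u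
    obtain ⟨g, hg⟩ := hs (dg d hd)
    rw [← StLift.conj_comm hc g (Y t) (Z u) _ _ (by rw [hg, hY, hY, dg_conj d hd hij])
      (by rw [hg, hZ, dg_conj d hd hkl, h2, one_mul]),
      StLift.comm_central hc (by rw [hY, hZ]; exact R.disj i j k l hij hkl hil hjk t u), mul_inv_cancel_right]
  rcases eq_or_ne i k with rfl | hik
  · rcases eq_or_ne j l with rfl | hjl
    · -- the same root
      obtain ⟨m, hm⟩ := exists_not_mem hc hs hn h3 h4 {i, j} (lt_of_le_of_lt Finset.card_le_two (by omega))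
      simp only [Finset.mem_insert, Finset.mem_singleton, not_or] at hm
      exact split m hm.1 hm.2 (Ne.symm hm.1) (Ne.symm hm.2)
    · -- the same row
      by_cases hn4 : 4 ≤ n
      · obtain ⟨m, hm⟩ := exists_not_mem hc hs hn h3 h4 {i, j, l} (lt_of_le_of_lt Finset.card_le_three (by omega))
        simp only [Finset.mem_insert, Finset.mem_singleton, not_or] at hm
        exact split m hm.1 hm.2.2 (Ne.symm hm.1) (Ne.symm hm.2.1)
      · obtain ⟨s, hs3⟩ := exists_cube_ne_one (h3 (by omega)).1 (h3 (by omega)).2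
        refine scale _ (prod_three i l j s) ?_ ?_
        · simp [Pi.mulSingle_apply, hij, hil, hij.symm, hjl, hil.symm]
          exact fun e => hs3 (by rw [← e]; ring)
        · simp [Pi.mulSingle_apply, hij, hil, hil.symm, hjl.symm]
  rcases eq_or_ne j l with rfl | hjl
  · -- the same column
    by_cases hn4 : 4 ≤ n
    · obtain ⟨m, hm⟩ := exists_not_mem hc hs hn h3 h4 {i, j, k} (lt_of_le_of_lt Finset.card_le_three (by omega))
      simp only [Finset.mem_insert, Finset.mem_singleton, not_or] at hm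
      exact split m hm.2.2 hm.2.1 (Ne.symm hm.1) (Ne.symm hm.2.1)
    · obtain ⟨s, hs3⟩ := exists_cube_ne_one (h3 (by omega)).1 (h3 (by omega)).2
      refine scale _ (prod_three j k i s) ?_ ?_
      · simp [Pi.mulSingle_apply, hij, hik, hij.symm, hjk]
        refine fun e => hs3 ?_
        field_simp at e
        linear_combination -e
      · simp [Pi.mulSingle_apply, hjk, hjk.symm, hik.symm, hij.symm]
  -- four different indices
  by_cases hn5 : 5 ≤ n
  · obtain ⟨m, hm⟩ := exists_not_mem hc hs hn h3 h4 {i, j, k, l} (lt_of_le_of_lt Finset.card_le_four (by omega))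
    simp only [Finset.mem_insert, Finset.mem_singleton, not_or] at hm
    exact split m hm.2.2.1 hm.2.2.2 (Ne.symm hm.1) (Ne.symm hm.2.1)
  have hn4 : n = 4 := by
    by_contra hne
    have hn3 : n = 3 := by omega
    have : ({i, j, k, l} : Finset (Fin n)).card = 4 := by
      rw [Finset.card_insert_of_notMem (by simp [hij, hik, hil]), Finset.card_insert_of_notMem (by simp [hjk, hjl]),
        Finset.card_pair hkl]
    have := Finset.card_le_univ ({i, j, k, l} : Finset (Fin n))
    simp at this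
    omega
  by_cases hF3 : Nat.card F = 3
  swap
  · obtain ⟨s, hs2⟩ := exists_sq_ne_one' (h4 hn4) hF3
    refine scale _ (prod_two i j s) ?_ ?_
    · simp [hij, hij.symm]
      exact fun e => hs2 (by rw [pow_two]; exact e)
    · simp [hik.symm, hjk.symm, hil.symm, hjl.symm]
  -- three elements
  choose Y hY using fun t : F => hs (T i j t)
  choose Z hZ using fun u : F => hs (T k l u)
  rw [Schur.comm_congr σ hc (ha.trans (hY t).symm) (hb.trans (hZ u).symm)]
  have hAB := R.disj i j k l hij hkl hil hjk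
  have haddl : ∀ t t' u, ⁅Y (t + t'), Z u⁆ = ⁅Y t, Z u⁆ * ⁅Y t', Z u⁆ := fun t t' u => by
    rw [Schur.comm_congr σ hc (g := Y (t + t')) (g' := Y t * Y t') (by rw [map_mul, hY, hY, hY, R.add i j hij]) rfl]
    exact StLift.comm_mul_left hc (by rw [hY, hZ]; exact hAB _ _)
  have haddr : ∀ t u u', ⁅Y t, Z (u + u')⁆ = ⁅Y t, Z u⁆ * ⁅Y t, Z u'⁆ := fun t u u' => by
    rw [Schur.comm_congr σ hc (h := Z (u + u')) (h' := Z u * Z u') rfl (by rw [map_mul, hZ, hZ, hZ, R.add k l hkl])]
    exact StLift.comm_mul_right hc (by rw [hY, hZ]; exact hAB _ _)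
  have h0l : ∀ u, ⁅Y 0, Z u⁆ = 1 := fun u => by
    have e := haddl 0 0 u
    rw [add_zero] at e
    exact mul_eq_left.mp e.symm
  have h0r : ∀ t, ⁅Y t, Z 0⁆ = 1 := fun t => by
    have e := haddr t 0 0
    rw [add_zero] at e
    exact mul_eq_left.mp e.symm
  have hall : ∀ x : F, x = 0 ∨ x = 1 ∨ x = 1 + 1 := by
    intro x
    have : Fintype F := Fintype.ofFinite F
    have hcard : Fintype.card F = 3 := by rwa [← Nat.card_eq_fintype_card]
    have h1 : (1 : F) + 1 ≠ 0 := by
      intro e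
      have h2 : ((2 : ℕ) : F) = 0 := by push_cast; linear_combination e
      have h3' : ((3 : ℕ) : F) = 0 := by rw [← hcard]; exact FiniteField.cast_card_eq_zero F
      apply one_ne_zero (α := F)
      push_cast at h2 h3'
      linear_combination h3' - h2
    by_contra e
    push Not at e
    have h' : ({x, 0, 1, 1 + 1} : Finset F).card = 4 := by
      rw [Finset.card_insert_of_notMem (by simp [e.1, e.2.1, e.2.2]),
        Finset.card_insert_of_notMem (by simp [Ne.symm h1]), Finset.card_pair (by simp)]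
    have := Finset.card_le_univ ({x, 0, 1, 1 + 1} : Finset F)
    omega
  have h11 : ⁅Y 1, Z 1⁆ = 1 := by
    let π : Equiv.Perm (Fin n) := Equiv.swap i k * Equiv.swap j l
    have hπi : π i = k := by simp [π, Equiv.swap_apply_of_ne_of_ne hij hil]
    have hπj : π j = l := by simp [π, Equiv.swap_apply_of_ne_of_ne hil.symm hkl.symm]
    have hπk : π k = i := by simp [π, Equiv.swap_apply_of_ne_of_ne hjk.symm hkl]
    have hπl : π l = j := by simp [π, Equiv.swap_apply_of_ne_of_ne hij.symm hjk]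
    have hdet : (π⁻¹.permMatrix F).det = 1 := by
      rw [det_permutation]
      simp [π, Equiv.Perm.sign_swap hik, Equiv.Perm.sign_swap hjl]
    let P : SpecialLinearGroup (Fin n) F := ⟨π⁻¹.permMatrix F, hdet⟩
    have hP : ∀ (x y : Fin n), x ≠ y → π x ≠ π y → ∀ t : F, P * T x y t * P⁻¹ = T (π x) (π y) t := by
      intro x y hxy hxy' t
      rw [mul_inv_eq_iff_eq_mul]
      refine sl_ext ?_
      rw [coe_mul', coe_mul', coe_T hxy, coe_T hxy']
      show π⁻¹.permMatrix F * _ = _ * π⁻¹.permMatrix F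
      rw [transvection, transvection, mul_add, add_mul, mul_one, one_mul]
      congr 1
      rw [Equiv.Perm.permMatrix, PEquiv.toMatrix_toPEquiv_mul, PEquiv.mul_toMatrix_toPEquiv]
      ext a b
      simp only [submatrix_apply, id_eq, single_apply, Equiv.Perm.coe_inv]
      have e1 : ∀ (c d : Fin n), (c = π⁻¹ d) ↔ π c = d := fun c d => Equiv.Perm.eq_inv_iff_eq
      by_cases h' : x = π.symm a ∧ y = b
      · rw [if_pos h', if_pos]
        obtain ⟨h'a, rfl⟩ := h'
        exact ⟨by rw [h'a, Equiv.apply_symm_apply], rfl⟩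
      · rw [if_neg h', if_neg]
        rintro ⟨e1', e2'⟩
        exact h' ⟨(Equiv.eq_symm_apply π).2 e1', π.injective e2'⟩
    obtain ⟨g, hg⟩ := hs P
    have e : ⁅Y 1, Z 1⁆ = ⁅Y 1, Z 1⁆⁻¹ := by
      conv_rhs => rw [commutatorElement_inv]
      rw [← StLift.conj_comm hc g (Y 1) (Z 1) (Z 1) (Y 1)
        (by rw [hg, hY, hZ, hP i j hij (by rw [hπi, hπj]; exact hkl), hπi, hπj])
        (by rw [hg, hY, hZ, hP k l hkl (by rw [hπk, hπl]; exact hij), hπk, hπl]),
        StLift.comm_central hc (by rw [hY, hZ]; exact hAB _ _), mul_inv_cancel_right]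
    have h2' : ⁅Y 1, Z 1⁆ * ⁅Y 1, Z 1⁆ = 1 := mul_eq_one_iff_eq_inv.2 e
    have h3'' : ⁅Y 1, Z 1⁆ * ⁅Y 1, Z 1⁆ * ⁅Y 1, Z 1⁆ = 1 := by
      rw [← haddl, ← haddl]
      have : Fintype F := Fintype.ofFinite F
      have h3' : ((3 : ℕ) : F) = 0 := by
        rw [← hF3, Nat.card_eq_fintype_card]; exact FiniteField.cast_card_eq_zero F
      rw [show (1 : F) + 1 + 1 = 0 by push_cast at h3'; linear_combination h3', h0l]
    rwa [h2', one_mul] at h3''
  rcases hall t with rfl | rfl | rfl <;> rcases hall u with rfl | rfl | rfl <;>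
    simp only [haddl, haddr, h0l, h0r, h11, mul_one]

/-- The commutator of two lifts depends only on the product of the parameters and not on the middle index. -/
theorem comm_indep {i j l m : Fin n} (hij : i ≠ j) (hjl : j ≠ l) (him : i ≠ m) (hml : m ≠ l) (hil : i ≠ l)
    {a b a' b' : Γ} {t u t' u' : F} (ha : σ a = T i j t) (hb : σ b = T j l u) (ha' : σ a' = T i m t')
    (hb' : σ b' = T m l u') (he : t * u = t' * u') : ⁅a, b⁆ = ⁅a', b'⁆ := by
  classical
  have R := rels_T (n := n) (F := F)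
  choose Y hY using fun (x : Fin n) (y : Fin n) (t : F) => hs (T x y t)
  have L := fun {i j k l : Fin n} => lift_commute hc hs hn h3 h4 (i := i) (j := j) (k := k) (l := l)
  rw [Schur.comm_congr σ hc (ha.trans (hY i j t).symm) (hb.trans (hY j l u).symm),
    Schur.comm_congr σ hc (ha'.trans (hY i m t').symm) (hb'.trans (hY m l u').symm)]
  by_cases hn4 : 4 ≤ n
  · have move : ∀ (j m : Fin n), i ≠ j → j ≠ l → i ≠ m → m ≠ l → j ≠ m → ∀ t s u : F,
        ⁅Y i m (t * s), Y m l u⁆ = ⁅Y i j t, Y j l (s * u)⁆ := by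
      intro j m hij hjl him hml hjm t s u
      obtain ⟨x, hx⟩ : ∃ x, x = ⁅Y i j t, Y j m s⁆ := ⟨_, rfl⟩
      obtain ⟨y, hy⟩ : ∃ y, y = ⁅Y j m s, Y m l u⁆ := ⟨_, rfl⟩
      have hσx : σ x = T i m (t * s) := by rw [hx, map_commutatorElement, hY, hY, R.comm i j m hij hjm him]
      have hσy : σ y = T j l (s * u) := by rw [hy, map_commutatorElement, hY, hY, R.comm j m l hjm hml hjl]
      rw [Schur.comm_congr σ hc ((hY i m (t * s)).trans hσx.symm) (rfl : σ (Y m l u) = _),
        Schur.comm_congr σ hc (rfl : σ (Y i j t) = _) ((hY j l (s * u)).trans hσy.symm)]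
      have hxy : Commute x y := L him hjl hil hjm.symm hσx hσy
      have hac : Commute (Y i j t) (Y m l u) := L hij hml hil hjm (hY _ _ _) (hY _ _ _)
      have hσz : σ ⁅x, Y m l u⁆ = T i l (t * s * u) := by
        rw [map_commutatorElement, hσx, hY, R.comm i m l him hml hil]
      have hyz : Commute y ⁅x, Y m l u⁆ := L hjl hil hjl hil.symm hσy hσz
      have e1 : Y i j t * y * (Y i j t)⁻¹ = y * ⁅x, Y m l u⁆ := by
        rw [hy, show Y i j t * ⁅Y j m s, Y m l u⁆ * (Y i j t)⁻¹ =
          ⁅Y i j t * Y j m s * (Y i j t)⁻¹, Y i j t * Y m l u * (Y i j t)⁻¹⁆ by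
            simp only [commutatorElement_def]; group,
          hac.eq, mul_inv_cancel_right, show Y i j t * Y j m s * (Y i j t)⁻¹ = x * Y j m s by
            rw [hx, commutatorElement_def]; group,
          show ⁅x * Y j m s, Y m l u⁆ = x * ⁅Y j m s, Y m l u⁆ * x⁻¹ * ⁅x, Y m l u⁆ by
            simp only [commutatorElement_def]; group, ← hy, hxy.eq, mul_inv_cancel_right]
      rw [show ⁅Y i j t, y⁆ = Y i j t * y * (Y i j t)⁻¹ * y⁻¹ from commutatorElement_def _ _, e1, hyz.eq,
        mul_inv_cancel_right]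
    have norm : ∀ (j m : Fin n), i ≠ j → j ≠ l → i ≠ m → m ≠ l → j ≠ m → ∀ t u : F,
        ⁅Y i j t, Y j l u⁆ = ⁅Y i m (t * u), Y m l 1⁆ := fun j m hij hjl him hml hjm t u => by
      rw [move j m hij hjl him hml hjm t u 1, mul_one]
    rcases eq_or_ne j m with rfl | hjm
    · obtain ⟨k, hk⟩ := exists_not_mem hc hs hn h3 h4 {i, j, l} (lt_of_le_of_lt Finset.card_le_three (by omega))
      simp only [Finset.mem_insert, Finset.mem_singleton, not_or] at hk
      rw [norm j k hij hjl (Ne.symm hk.1) hk.2.2 (Ne.symm hk.2.1),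
        norm j k hij hjl (Ne.symm hk.1) hk.2.2 (Ne.symm hk.2.1), he]
    · obtain ⟨k, hk⟩ := exists_not_mem hc hs hn h3 h4 {i, m, l} (lt_of_le_of_lt Finset.card_le_three (by omega))
      simp only [Finset.mem_insert, Finset.mem_singleton, not_or] at hk
      rw [norm j m hij hjl him hml hjm, norm m k him hml (Ne.symm hk.1) hk.2.2 (Ne.symm hk.2.1),
        norm m k him hml (Ne.symm hk.1) hk.2.2 (Ne.symm hk.2.1), he, mul_one]
  · have hn3 : n = 3 := by omega
    obtain rfl : j = m := by
      by_contra hjm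
      have : ({i, j, m, l} : Finset (Fin n)).card = 4 := by
        rw [Finset.card_insert_of_notMem (by simp [hij, him, hil]),
          Finset.card_insert_of_notMem (by simp [hjm, hjl]), Finset.card_pair hml]
      have := Finset.card_le_univ ({i, j, m, l} : Finset (Fin n))
      simp at this
      omega
    obtain ⟨s, hs3⟩ := exists_cube_ne_one (h3 hn3).1 (h3 hn3).2
    obtain ⟨g, hg⟩ := hs (dg _ (prod_three i j l s))
    have hd : (s : F) ^ 3 - 1 ≠ 0 := sub_ne_zero.2 hs3
    have hfun : ∀ t u : F, ⁅Y i j t, Y j l u⁆ = ⁅g, Y i l (((s : F) ^ 3 - 1)⁻¹ * (t * u))⁆ := by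
      intro t u
      obtain ⟨v, hv⟩ : ∃ v, v = ((s : F) ^ 3 - 1)⁻¹ * u := ⟨_, rfl⟩
      have hu : ((s : F) ^ 3 - 1) * v = u := by rw [hv]; field_simp
      rw [Schur.comm_congr σ hc (g := g) (h := Y i l (((s : F) ^ 3 - 1)⁻¹ * (t * u)))
        (h' := ⁅Y i j t, Y j l v⁆) rfl (by
          rw [map_commutatorElement, hY, hY, hY, R.comm i j l hij hjl hil, hv]; congr 1; ring),
        commutatorElement_def g, StLift.conj_comm hc g (Y i j t) (Y j l v) (Y i j t) (Y j l ((s : F) ^ 3 * v))
          (by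
            rw [hg, hY, dg_conj _ _ hij]
            congr 1
            simp [hij, hij.symm, hil, hil.symm, hjl, hjl.symm])
          (by
            rw [hg, hY, hY, dg_conj _ _ hjl]
            congr 1
            simp [hij.symm, hil, hil.symm, hjl, hjl.symm]
            field_simp
            simp),
        Schur.comm_congr σ hc (g := Y i j t) (g' := Y i j t) (h := Y j l ((s : F) ^ 3 * v))
          (h' := Y j l u * Y j l v) rfl (by
            rw [map_mul, hY, hY, hY, R.add j l hjl]; congr 1; linear_combination hu)]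
      have hσv : σ ⁅Y i j t, Y j l v⁆ = T i l (t * v) := by
        rw [map_commutatorElement, hY, hY, R.comm i j l hij hjl hil]
      have hcomm : Commute (Y j l u) ⁅Y i j t, Y j l v⁆ :=
        L hjl hil hjl hil.symm (hY _ _ _) hσv
      rw [show ⁅Y i j t, Y j l u * Y j l v⁆ = ⁅Y i j t, Y j l u⁆ * (Y j l u * ⁅Y i j t, Y j l v⁆ * (Y j l u)⁻¹) by
        simp only [commutatorElement_def]; group, hcomm.eq, mul_inv_cancel_right, mul_inv_cancel_right]
    rw [hfun, hfun, he]

/-- Stem extensions of `SL n` are trivial. -/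
theorem sl_ker_eq_bot (hσ : Cfsg.IsStemExtension σ) : σ.ker = ⊥ := by
  classical
  have R := rels_T (n := n) (F := F)
  choose Y hY using fun (x : Fin n) (y : Fin n) (t : F) => hs (T x y t)
  choose thd hthd using fun p : Fin n × Fin n =>
    exists_not_mem hc hs hn h3 h4 {p.1, p.2} (lt_of_le_of_lt Finset.card_le_two (by omega))
  have th1 : ∀ i l, i ≠ thd (i, l) := fun i l e => hthd (i, l) (by rw [← e]; simp)
  have th2 : ∀ i l, thd (i, l) ≠ l := fun i l e => hthd (i, l) (by rw [e]; simp)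
  let X : Fin n → Fin n → F → Γ := fun i l t => ⁅Y i (thd (i, l)) t, Y (thd (i, l)) l 1⁆
  have hX : ∀ i l, i ≠ l → ∀ t, σ (X i l t) = T i l t := fun i l hil t => by
    rw [map_commutatorElement, hY, hY, R.comm i _ l (th1 i l) (th2 i l) hil, mul_one]
  have L := fun {i j k l : Fin n} => lift_commute hc hs hn h3 h4 (i := i) (j := j) (k := k) (l := l)
  have hR : Rels X := by
    refine ⟨fun i j hij t u => ?_, fun i j k l hij hkl hil hjk t u => L hij hkl hil hjk (hX i j hij t) (hX k l hkl u),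
      fun i j l hij hjl hil t u => ?_⟩
    · obtain ⟨m, hm⟩ : ∃ m, m = thd (i, j) := ⟨_, rfl⟩
      have him : i ≠ m := hm ▸ th1 i j
      have hmj : m ≠ j := hm ▸ th2 i j
      show ⁅_, _⁆ * ⁅_, _⁆ = ⁅_, _⁆
      rw [← hm, Schur.comm_congr σ hc (g := Y i m (t + u)) (g' := Y i m u * Y i m t) (h' := Y m j 1)
        (by rw [map_mul, hY, hY, hY, R.add i m him, add_comm]) rfl,
        show ⁅Y i m u * Y i m t, Y m j 1⁆ = Y i m u * ⁅Y i m t, Y m j 1⁆ * (Y i m u)⁻¹ * ⁅Y i m u, Y m j 1⁆ by
          simp only [commutatorElement_def]; group]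
      have hσt : σ ⁅Y i m t, Y m j 1⁆ = T i j t := by
        rw [map_commutatorElement, hY, hY, R.comm i m j him hmj hij, mul_one]
      rw [(L him hij hij him.symm (hY i m u) hσt).eq, mul_inv_cancel_right]
    · show ⁅X i j t, X j l u⁆ = ⁅_, _⁆
      exact comm_indep hc hs hn h3 h4 hij hjl (th1 i l) (th2 i l) hil (hX i j hij t) (hX j l hjl u)
        (hY _ _ _) (hY _ _ _) (mul_one _).symm
  obtain ⟨e, he⟩ := Cfsg.Agent.S2401.result (K := F) n hn
  let f : {ij : Fin n × Fin n // ij.1 ≠ ij.2} × F → Γ := fun x => X x.1.1.1 x.1.1.2 x.2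
  refine StLift.ker_eq_bot_of_section hσ e.toMonoidHom e.surjective (PresentedGroup.toGroup (f := f) ?_) ?_ e.injective
  · rintro r ((⟨⟨⟨i, j⟩, hij⟩, t, u, rfl⟩ | ⟨⟨⟨i, j⟩, hij⟩, ⟨⟨k, l⟩, hkl⟩, t, u, h1, h2, rfl⟩) |
      ⟨⟨⟨i, j⟩, hij⟩, ⟨⟨k, l⟩, hkl⟩, hil, t, u, h2, rfl⟩)
    · simp only [map_mul, map_inv, FreeGroup.lift_apply_of, f]
      rw [hR.add i j hij, mul_inv_cancel]
    · simp only [map_mul, map_inv, FreeGroup.lift_apply_of, f]
      rw [← commutatorElement_def, commutatorElement_eq_one_iff_commute]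
      exact hR.disj i j k l hij hkl h1 h2 t u
    · simp only at h2
      subst h2
      simp only [map_mul, map_inv, FreeGroup.lift_apply_of, f]
      rw [← commutatorElement_def, hR.comm i j l hij hkl hil, mul_inv_cancel]
  · refine PresentedGroup.ext fun p => ?_
    obtain ⟨⟨⟨i, j⟩, hij⟩, t⟩ := p
    show σ (PresentedGroup.toGroup _ (PresentedGroup.of _)) = e (PresentedGroup.of _)
    rw [PresentedGroup.toGroup.of]
    show σ (X i j t) = _
    rw [hX i j hij]
    refine sl_ext ?_
    rw [coe_T hij]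
    exact (he ⟨(i, j), hij⟩ t).symm

end Central

end Cfsg.Lib.StN
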