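import Cfsg.Agent.Known.StLift.SLTwo
import Mathlib

/-!
Consequences of the Steinberg relations of type `A`.
-/

set_option autoImplicit false
set_option linter.style.haveILetI false
set_option linter.unusedSectionVars false

open scoped commutatorElement

namespace Cfsg.Lib.StN

universe u v

variable {n : ℕ} {K : Type v} [Field K] {G : Type u} [Group G]

/-- The Steinberg relations of type `A`. -/
structure Rels (X : Fin n → Fin n → K → G) : Prop where
  add : ∀ i j, i ≠ j → ∀ t u, X i j t * X i j u = X i j (t + u)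
  disj : ∀ i j k l, i ≠ j → k ≠ l → i ≠ l → j ≠ k → ∀ t u, Commute (X i j t) (X k l u)
  comm : ∀ i j l, i ≠ j → j ≠ l → i ≠ l → ∀ t u, ⁅X i j t, X j l u⁆ = X i l (t * u)

/-- The Weyl elements. -/
def W (X : Fin n → Fin n → K → G) (i j : Fin n) (a : K) : G := X i j a * X j i (-a⁻¹) * X i j a

/-- The torus elements. -/
def hh (X : Fin n → Fin n → K → G) (i j : Fin n) (a : K) : G := W X i j a * (W X i j 1)⁻¹

variable {X : Fin n → Fin n → K → G}

theorem Rels.zero (h : Rels X) {i j : Fin n} (hij : i ≠ j) : X i j 0 = 1 := by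
  have e := h.add i j hij 0 0
  rw [add_zero] at e
  exact mul_eq_left.mp e

theorem Rels.inv (h : Rels X) {i j : Fin n} (hij : i ≠ j) (t : K) : (X i j t)⁻¹ = X i j (-t) :=
  inv_eq_of_mul_eq_one_right (by rw [h.add i j hij, add_neg_cancel, h.zero hij])

theorem Rels.fix (h : Rels X) {i j k l : Fin n} (h1 : i ≠ j) (h2 : k ≠ l) (h3 : i ≠ l) (h4 : j ≠ k) (t u : K) :
    X i j t * X k l u * (X i j t)⁻¹ = X k l u := by
  rw [(h.disj i j k l h1 h2 h3 h4 t u).eq, mul_inv_cancel_right]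

theorem Rels.cj_row (h : Rels X) {i j l : Fin n} (h1 : i ≠ j) (h2 : j ≠ l) (h3 : i ≠ l) (t u : K) :
    X i j t * X j l u * (X i j t)⁻¹ = X i l (t * u) * X j l u := by
  rw [← h.comm i j l h1 h2 h3, commutatorElement_def]; group

theorem Rels.cj_col (h : Rels X) {i j l : Fin n} (h1 : i ≠ j) (h2 : j ≠ l) (h3 : i ≠ l) (t u : K) :
    X j l u * X i j t * (X j l u)⁻¹ = X i l (-(t * u)) * X i j t := by
  have e : ⁅X j l u, X i j t⁆ = X i l (-(t * u)) := by
    rw [← commutatorElement_inv, h.comm i j l h1 h2 h3, h.inv h3]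
  rw [← e, commutatorElement_def]; group

theorem mul_conj (a x y : G) : a * (x * y) * a⁻¹ = (a * x * a⁻¹) * (a * y * a⁻¹) := by group

theorem mid {B C : G} (h : Commute B C) (A : G) : A * B * C = A * C * B := by rw [mul_assoc, h.eq, ← mul_assoc]

theorem conj3 (a b c x : G) : a * b * c * x * (a * b * c)⁻¹ = a * (b * (c * x * c⁻¹) * b⁻¹) * a⁻¹ := by group

section

variable (h : Rels X) {i j k : Fin n} (hij : i ≠ j) (hik : i ≠ k) (hjk : j ≠ k) {a : K} (ha : a ≠ 0)
include h hij hik hjk ha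

theorem Rels.W_row_j (u : K) : W X i j a * X j k u * (W X i j a)⁻¹ = X i k (a * u) := by
  rw [W, conj3, h.cj_row hij hjk hik, mul_conj (X j i (-a⁻¹)), h.cj_row hij.symm hik hjk, h.fix hij.symm hjk hjk hij,
    show -a⁻¹ * (a * u) = -u by field_simp,
    mid (h.disj i k j k hik hjk hik hjk.symm (a * u) u), h.add j k hjk, neg_add_cancel,
    h.zero hjk, one_mul, h.fix hij hik hik hij.symm]

theorem Rels.W_row_i (u : K) : W X i j a * X i k u * (W X i j a)⁻¹ = X j k (-(a⁻¹ * u)) := by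
  rw [W, conj3, h.fix hij hik hik hij.symm, h.cj_row hij.symm hik hjk, mul_conj, h.cj_row hij hjk hik,
    h.fix hij hik hik hij.symm, show a * (-a⁻¹ * u) = -u by field_simp,
    mid (h.disj j k i k hjk hik hjk hik.symm (-a⁻¹ * u) u), h.add i k hik, neg_add_cancel,
    h.zero hik, one_mul, neg_mul]

theorem Rels.W_col_i (u : K) : W X i j a * X k i u * (W X i j a)⁻¹ = X k j (-(a * u)) := by
  rw [W, conj3, h.cj_col hik.symm hij hjk.symm, mul_conj (X j i (-a⁻¹)), h.cj_col hjk.symm hij.symm hik.symm,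
    h.fix hij.symm hik.symm hij.symm.symm.symm hik, show -(-(u * a) * -a⁻¹) = -u by field_simp,
    mid (h.disj k j k i hjk.symm hik.symm hik.symm hjk (-(u * a)) u), h.add k i hik.symm, neg_add_cancel,
    h.zero hik.symm, one_mul, h.fix hij hjk.symm hij hjk, mul_comm u a]

theorem Rels.W_col_j (u : K) : W X i j a * X k j u * (W X i j a)⁻¹ = X k i (a⁻¹ * u) := by
  rw [W, conj3, h.fix hij hjk.symm hij hjk, h.cj_col hjk.symm hij.symm hik.symm, mul_conj,
    h.cj_col hik.symm hij hjk.symm, h.fix hij hjk.symm hij hjk, show -(-(u * -a⁻¹) * a) = -u by field_simp,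
    mid (h.disj k i k j hik.symm hjk.symm hjk.symm hik (-(u * -a⁻¹)) u), h.add k j hjk.symm,
    neg_add_cancel, h.zero hjk.symm, one_mul, show -(u * -a⁻¹) = a⁻¹ * u by ring]

end

theorem Rels.W_other (h : Rels X) {i j k l : Fin n} (hij : i ≠ j) (hkl : k ≠ l) (h1 : k ≠ i) (h2 : k ≠ j) (h3 : l ≠ i)
    (h4 : l ≠ j) (a u : K) : W X i j a * X k l u * (W X i j a)⁻¹ = X k l u := by
  rw [W, conj3, h.fix hij hkl h3.symm h2.symm, h.fix hij.symm hkl h4.symm h1.symm, h.fix hij hkl h3.symm h2.symm]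

theorem Rels.W_self (h : Rels X) {i j k : Fin n} (hij : i ≠ j) (hik : i ≠ k) (hjk : j ≠ k) {a : K} (ha : a ≠ 0)
    (u : K) : W X i j a * X i j u * (W X i j a)⁻¹ = X j i (-(a⁻¹ ^ 2 * u)) := by
  rw [← mul_one u, ← h.comm i k j hik hjk.symm hij u 1, conjugate_commutatorElement, h.W_row_i hij hik hjk ha,
    h.W_col_j hij hik hjk ha, h.comm j k i hjk hik.symm hij.symm]
  congr 1
  ring

theorem Rels.W_inv (h : Rels X) {i j : Fin n} (hij : i ≠ j) (a : K) : (W X i j a)⁻¹ = W X i j (-a) := by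
  rw [W, W, mul_inv_rev, mul_inv_rev, h.inv hij, h.inv hij.symm, ← mul_assoc, neg_neg, inv_neg, neg_neg]

theorem Rels.hh_conj_row_j (h : Rels X) {i j k : Fin n} (hij : i ≠ j) (hik : i ≠ k) (hjk : j ≠ k) {a : K}
    (ha : a ≠ 0) (u : K) : hh X i j a * X j k u * (hh X i j a)⁻¹ = X j k (a⁻¹ * u) := by
  rw [hh, h.W_inv hij, show ∀ A B x : G, A * B * x * (A * B)⁻¹ = A * (B * x * B⁻¹) * A⁻¹ from fun _ _ _ => by group,
    h.W_row_j hij hik hjk (neg_ne_zero.2 one_ne_zero), h.W_row_i hij hik hjk ha]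
  congr 1
  ring

theorem Rels.hh_conj_col_j (h : Rels X) {i j k : Fin n} (hij : i ≠ j) (hik : i ≠ k) (hjk : j ≠ k) {a : K}
    (ha : a ≠ 0) (u : K) : hh X i j a * X k j u * (hh X i j a)⁻¹ = X k j (a * u) := by
  rw [hh, h.W_inv hij, show ∀ A B x : G, A * B * x * (A * B)⁻¹ = A * (B * x * B⁻¹) * A⁻¹ from fun _ _ _ => by group,
    h.W_col_j hij hik hjk (neg_ne_zero.2 one_ne_zero), h.W_col_i hij hik hjk ha]
  congr 1
  rw [inv_neg, inv_one]
  ring

/-- The torus scales every root subgroup away from its own. -/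
theorem Rels.hh_scales (h : Rels X) {i j k l : Fin n} (hij : i ≠ j) (hkl : k ≠ l)
    (h1 : ¬(k = i ∧ l = j)) (h2 : ¬(k = j ∧ l = i)) {a : K} (ha : a ≠ 0) :
    ∃ c : K, c ≠ 0 ∧ ∀ u, hh X i j a * X k l u * (hh X i j a)⁻¹ = X k l (c * u) := by
  have e : ∀ A B x : G, A * B * x * (A * B)⁻¹ = A * (B * x * B⁻¹) * A⁻¹ := fun _ _ _ => by group
  have hm : (-1 : K) ≠ 0 := neg_ne_zero.2 one_ne_zero
  rcases eq_or_ne k i with rfl | hki
  · have hlj : l ≠ j := fun e => h1 ⟨rfl, e⟩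
    refine ⟨a, ha, fun u => ?_⟩
    rw [hh, h.W_inv hij, e, h.W_row_i hij hkl hlj.symm hm, h.W_row_j hij hkl hlj.symm ha]
    congr 1
    rw [inv_neg, inv_one]; ring
  rcases eq_or_ne k j with rfl | hkj
  · exact ⟨a⁻¹, inv_ne_zero ha, h.hh_conj_row_j hij (fun e => h2 ⟨rfl, e.symm⟩) hkl ha⟩
  rcases eq_or_ne l i with rfl | hli
  · refine ⟨a⁻¹, inv_ne_zero ha, fun u => ?_⟩
    rw [hh, h.W_inv hij, e, h.W_col_i hij hki.symm hkj.symm hm, h.W_col_j hij hki.symm hkj.symm ha]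
    congr 1
    ring
  rcases eq_or_ne l j with rfl | hlj
  · exact ⟨a, ha, h.hh_conj_col_j hij hki.symm hkj.symm ha⟩
  refine ⟨1, one_ne_zero, fun u => ?_⟩
  rw [hh, h.W_inv hij, e, h.W_other hij hkl hki hkj hli hlj, h.W_other hij hkl hki hkj hli hlj, one_mul]

open Cfsg.Lib.StLift in
/-- The rank one subgroups. -/
theorem Rels.exists_psi [Finite K] (h : Rels X) {i j k : Fin n} (hij : i ≠ j) (hik : i ≠ k) (hjk : j ≠ k) :
    ∃ ψ : Matrix.SpecialLinearGroup (Fin 2) K →* G, (∀ t, ψ (U2 true t) = X i j t) ∧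
      (∀ t, ψ (U2 false t) = X j i t) ∧ (⊤ : Subgroup (Matrix.SpecialLinearGroup (Fin 2) K)) ≤
        Subgroup.closure (Set.range fun p : Bool × K => U2 p.1 p.2) := by
  classical
  obtain ⟨e, het, hef⟩ := Cfsg.Agent.S2426.result (K := K)
  let f : Bool × K → G := fun p => bif p.1 then X i j p.2 else X j i p.2
  have hf : ∀ r ∈ ({g : FreeGroup (Bool × K) | ∃ (b : Bool) (t u : K), g = FreeGroup.of (b, t) * FreeGroup.of (b, u) * (FreeGroup.of (b, t + u))⁻¹} ∪
          {g | ∃ (b : Bool) (t u : K), t ≠ 0 ∧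
            g = (FreeGroup.of (b, t) * FreeGroup.of (!b, -t⁻¹) * FreeGroup.of (b, t)) * FreeGroup.of (b, u) *
                  (FreeGroup.of (b, t) * FreeGroup.of (!b, -t⁻¹) * FreeGroup.of (b, t))⁻¹ * (FreeGroup.of (!b, -(t⁻¹ ^ 2 * u)))⁻¹}),
      FreeGroup.lift f r = 1 := by
    rintro r (⟨b, t, u, rfl⟩ | ⟨b, t, u, ht, rfl⟩)
    · simp only [map_mul, map_inv, FreeGroup.lift_apply_of, mul_inv_eq_one, f]
      cases b
      · exact h.add j i hij.symm t u
      · exact h.add i j hij t u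
    · simp only [map_mul, map_inv, FreeGroup.lift_apply_of, mul_inv_eq_one, f]
      cases b
      · exact h.W_self hij.symm hjk hik ht u
      · exact h.W_self hij hik hjk ht u
  have he : ∀ b t, e (PresentedGroup.of (b, t)) = U2 b t := fun b t => by
    refine Subtype.ext ?_
    cases b
    · exact hef t
    · exact het t
  refine ⟨(PresentedGroup.toGroup hf).comp e.symm.toMonoidHom, fun t => ?_, fun t => ?_, ?_⟩
  · show PresentedGroup.toGroup hf (e.symm (U2 true t)) = _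
    rw [← he, e.symm_apply_apply, PresentedGroup.toGroup.of]; rfl
  · show PresentedGroup.toGroup hf (e.symm (U2 false t)) = _
    rw [← he, e.symm_apply_apply, PresentedGroup.toGroup.of]; rfl
  · rw [← Subgroup.map_top_of_surjective e.toMonoidHom e.surjective, ← PresentedGroup.closure_range_of,
      MonoidHom.map_closure]
    refine Subgroup.closure_mono ?_
    rintro _ ⟨_, ⟨⟨b, t⟩, rfl⟩, rfl⟩
    exact ⟨(b, t), (he b t).symm⟩

open Cfsg.Lib.StLift in
theorem psi_D2 {ψ : Matrix.SpecialLinearGroup (Fin 2) K →* G} (h : Rels X) {i j : Fin n} (hij : i ≠ j)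
    (ht : ∀ t, ψ (U2 true t) = X i j t) (hf : ∀ t, ψ (U2 false t) = X j i t) (a : Kˣ) :
    ψ (D2 a) = hh X i j (a : K) := by
  have e : D2 a = (U2 true (a : K) * U2 false (-(a : K)⁻¹) * U2 true (a : K)) *
      (U2 true (-1 : K) * U2 false 1 * U2 true (-1)) := by
    refine Subtype.ext ?_
    rw [Matrix.SpecialLinearGroup.coe_mul]
    simp only [Matrix.SpecialLinearGroup.coe_mul]
    simp [coe_U2, coe_D2]
  rw [e, hh, h.W_inv hij, W, W, map_mul, map_mul, map_mul, map_mul, map_mul, ht, ht, hf, hf, inv_neg, inv_one, neg_neg]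

end Cfsg.Lib.StN
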